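import Cfsg.Agent.Lib.SLShort.Glue
import Cfsg.Agent.Lib.ShortPres.Pres

/-!
The presentations of `SLₙ(q)` and `PSLₙ(q)`, `n ≥ 4`, on six or seven generators.
-/

set_option autoImplicit false
set_option linter.unusedSectionVars false
set_option linter.unusedSimpArgs false
set_option linter.style.haveILetI false

namespace Cfsg.Agent.SLShort

open Equiv Cfsg.Agent.BoundedPres

/-- A presentation of an alternating group on `b` generators with `r` relations. -/
def AltPres (n b r : ℕ) : Prop :=
  ∃ (R : Finset (FreeGroup (Fin b))) (v : Fin b → alternatingGroup (Fin n)), R.card ≤ r ∧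
    (∀ x ∈ R, FreeGroup.lift v x = 1) ∧ Subgroup.closure (Set.range v) = ⊤ ∧
    ∀ (G : Type) [Group G] (w : Fin b → G), (∀ x ∈ R, FreeGroup.lift w x = 1) →
      ∃ f : alternatingGroup (Fin n) →* G, ∀ i, f (v i) = w i

theorem altPres_congr {n b r : ℕ} {T : Type} [Group T] (e : T ≃* alternatingGroup (Fin n))
    (R : Finset (FreeGroup (Fin b))) (hR : R.card ≤ r) (v : Fin b → T)
    (hv : ∀ x ∈ R, FreeGroup.lift v x = 1) (hgen : Subgroup.closure (Set.range v) = ⊤)
    (hu : ∀ (G : Type) [Group G] (w : Fin b → G), (∀ x ∈ R, FreeGroup.lift w x = 1) →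
      ∃ f : T →* G, ∀ i, f (v i) = w i) : AltPres n b r := by
  refine ⟨R, e ∘ v, hR, fun x hx => ?_, ?_, fun G _ w hw => ?_⟩
  · rw [show FreeGroup.lift (e ∘ v) = e.toMonoidHom.comp (FreeGroup.lift v) from
      FreeGroup.ext_hom _ _ fun i => by simp, MonoidHom.comp_apply, hv x hx, map_one]
  · rw [Set.range_comp, show (e : T → alternatingGroup (Fin n)) = e.toMonoidHom from rfl,
      ← MonoidHom.map_closure, hgen, Subgroup.map_top_of_surjective _ e.surjective]
  · obtain ⟨f, hf⟩ := hu G w hw
    exact ⟨f.comp e.symm.toMonoidHom, fun i => by simp [hf]⟩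

theorem altPres_large {n : ℕ} (hn : 5 ≤ n) : AltPres n 3 7 := by
  obtain ⟨R, e, hR, -⟩ := (ShortPres.pres7_fin n hn).2
  refine altPres_congr (MulEquiv.refl _) R hR (fun i => e (PresentedGroup.of i)) (fun x hx => ?_) ?_
    fun G _ w hw => ?_
  · rw [show FreeGroup.lift (fun i => e (PresentedGroup.of i)) = e.toMonoidHom.comp (PresentedGroup.mk _)
      from FreeGroup.ext_hom _ _ fun i => by rw [FreeGroup.lift_apply_of]; rfl, MonoidHom.comp_apply,
      PresentedGroup.one_of_mem (Finset.mem_coe.2 hx), map_one]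
  · rw [show Set.range (fun i => e (PresentedGroup.of i)) =
      e.toMonoidHom '' Set.range (PresentedGroup.of (rels := (↑R : Set (FreeGroup (Fin 3))))) by
        rw [← Set.range_comp]; rfl, ← MonoidHom.map_closure, PresentedGroup.closure_range_of,
      Subgroup.map_top_of_surjective _ e.surjective]
  · have hw' : ∀ x ∈ (↑R : Set (FreeGroup (Fin 3))), FreeGroup.lift w x = 1 := fun x hx =>
      hw x (Finset.mem_coe.1 hx)
    refine ⟨(PresentedGroup.toGroup hw').comp e.symm.toMonoidHom, fun i => ?_⟩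
    show PresentedGroup.toGroup hw' (e.symm (e _)) = _
    rw [e.symm_apply_apply, PresentedGroup.toGroup.of]

theorem altPres_five : AltPres 5 2 4 := by
  classical
  open ShortPres in
  haveI : Fact (Nat.Prime 3) := ⟨Nat.prime_three⟩
  open ShortPres in
  obtain ⟨A0, r', uB, h1, hA, -, -, hB1, hB2, huniv⟩ := exists_base (L := 3) (p := 3) (by norm_num) le_rfl
  have hfull := Cs_eq_alternating (ShortPres.good_seg (L := 3) 3) ShortPres.seg_full
  have hcard : Fintype.card (ShortPres.Pts 3) = 5 := by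
    rw [Fintype.card_sum, Fintype.card_fin, ZMod.card]
  let e := (MulEquiv.subgroupCongr hfull).trans (Equiv.altCongrHom (Fintype.equivFinOfCardEq hcard))
  let A : FreeGroup (Fin 2) := FreeGroup.of 0
  let X : FreeGroup (Fin 2) := FreeGroup.of 1
  let Y : ZMod 3 → FreeGroup (Fin 2) := fun i => A ^ i.val * X * (A ^ i.val)⁻¹
  let B := FreeGroup.lift Y uB
  let cz := ShortPres.cz 3 3
  let v : Fin 2 → _ := ![A0, cz 0]
  have hY : ∀ i, FreeGroup.lift v (Y i) = cz i := fun i => by
    simp only [Y, A, X, map_mul, map_inv, map_pow, FreeGroup.lift_apply_of]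
    show A0 ^ i.val * cz 0 * (A0 ^ i.val)⁻¹ = cz i
    rw [hA, ZMod.natCast_zmod_val, add_zero]
  have hB : FreeGroup.lift v B = FreeGroup.lift cz uB :=
    DFunLike.congr_fun (f := (FreeGroup.lift v).comp (FreeGroup.lift Y)) (g := FreeGroup.lift cz)
      (FreeGroup.ext_hom _ _ fun i => by simp [hY]) uB
  refine altPres_congr e {A ^ 3 * (X ^ 3)⁻¹, B * A * B⁻¹ * (A ^ r')⁻¹, B * X * B⁻¹ * X,
      (X * (A * X * A⁻¹)) ^ 2} Finset.card_le_four v ?_ ?_ ?_
  · intro x hx
    simp only [Finset.mem_insert, Finset.mem_singleton] at hx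
    have hcube : ∀ i, cz i ^ 3 = 1 := fun i => Subtype.ext (by
      rw [SubmonoidClass.coe_pow, OneMemClass.coe_one]
      exact cyc_cube ShortPres.pab (ShortPres.pt_ne_a _) (ShortPres.pt_ne_b _))
    rcases hx with rfl | rfl | rfl | rfl
    · simp only [A, X, map_mul, map_inv, map_pow, FreeGroup.lift_apply_of, mul_inv_eq_one]
      exact h1.trans (hcube 0).symm
    · simp only [A, map_mul, map_inv, map_pow, FreeGroup.lift_apply_of, hB, mul_inv_eq_one]
      exact hB1
    · simp only [X, map_mul, map_inv, FreeGroup.lift_apply_of, hB]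
      show FreeGroup.lift cz uB * cz 0 * (FreeGroup.lift cz uB)⁻¹ * cz 0 = 1
      rw [hB2, inv_mul_cancel]
    · simp only [A, X, map_mul, map_inv, map_pow, FreeGroup.lift_apply_of]
      show (cz 0 * (A0 * cz 0 * A0⁻¹)) ^ 2 = 1
      have := hA 1 0
      rw [pow_one, add_zero] at this
      rw [this]
      refine Subtype.ext ?_
      rw [SubmonoidClass.coe_pow, OneMemClass.coe_one, Subgroup.coe_mul]
      refine (carRel_cyc (ShortPres.good_seg (L := 3) 3)).pair _ (ShortPres.pt_mem (ZMod.val_lt _)) _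
        (ShortPres.pt_mem (ZMod.val_lt _)) fun e => ?_
      have := ShortPres.pt_inj (ZMod.val_lt (0 : ZMod 3)) (ZMod.val_lt ((1 : ℕ) : ZMod 3)) e
      simp [ZMod.val_one] at this
  · rw [eq_top_iff, ← ShortPres.cz_gen, Subgroup.closure_le]
    rintro _ ⟨i, rfl⟩
    show cz i ∈ _
    rw [← hY i]
    exact lift_mem_closure _ _
  · intro G _ w hw
    simp only [Finset.mem_insert, Finset.mem_singleton, forall_eq_or_imp, forall_eq] at hw
    obtain ⟨w1, w2, w3, w4⟩ := hw
    simp only [A, X, map_mul, map_inv, map_pow, FreeGroup.lift_apply_of] at w1 w2 w3 w4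
    rw [mul_inv_eq_one] at w1 w2
    have hwB : FreeGroup.lift w B = FreeGroup.lift (fun i : ZMod 3 => w 0 ^ i.val * w 1 * (w 0 ^ i.val)⁻¹) uB :=
      DFunLike.congr_fun (f := (FreeGroup.lift w).comp (FreeGroup.lift Y)) (FreeGroup.ext_hom _ _ fun i => by
        simp [Y, A, X]) uB
    rw [hwB] at w2 w3
    obtain ⟨f, fA, fX, -⟩ := huniv G (w 0) (w 1) w1 w2 (eq_inv_of_mul_eq_one_left w3) w4
    refine ⟨f, fun i => ?_⟩
    fin_cases i
    · exact fA
    · exact fX

theorem altPres_four : AltPres 4 2 3 := by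
  classical
  set s : Finset (Fin 4) := {2, 3}
  have hs : Good (0 : Fin 4) 1 s := ⟨by decide, by decide, by decide⟩
  have hfull := Cs_eq_alternating hs (by decide)
  let x : FreeGroup (Fin 2) := FreeGroup.of 0
  let y : FreeGroup (Fin 2) := FreeGroup.of 1
  let c2 : Cs (0 : Fin 4) 1 s := ⟨cyc 0 1 2, cyc_mem (by decide)⟩
  let c3' : Cs (0 : Fin 4) 1 s := ⟨cyc 0 1 3, cyc_mem (by decide)⟩
  refine altPres_congr (MulEquiv.subgroupCongr hfull) {x ^ 3, y ^ 3, (x * y) ^ 2} Finset.card_le_three
    ![c2, c3'] ?_ ?_ ?_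
  · intro z hz
    simp only [Finset.mem_insert, Finset.mem_singleton] at hz
    rcases hz with rfl | rfl | rfl <;>
      simp only [x, y, map_mul, map_pow, FreeGroup.lift_apply_of] <;> refine Subtype.ext ?_ <;>
      rw [SubmonoidClass.coe_pow, OneMemClass.coe_one]
    · exact (carRel_cyc hs).cube 2 (by decide)
    · exact (carRel_cyc hs).cube 3 (by decide)
    · exact (carRel_cyc hs).pair 2 (by decide) 3 (by decide) (by decide)
  · rw [eq_top_iff]
    rintro ⟨g, hg⟩ -
    have : Cs (0 : Fin 4) 1 s ≤ (Subgroup.closure (Set.range ![c2, c3'])).map (Cs (0 : Fin 4) 1 s).subtype := by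
      conv_lhs => rw [Cs]
      rw [Subgroup.closure_le]
      rintro _ ⟨i, hi, rfl⟩
      rcases Finset.mem_insert.1 (Finset.mem_coe.1 hi) with rfl | hi
      · exact ⟨c2, Subgroup.subset_closure ⟨0, rfl⟩, rfl⟩
      · obtain rfl := Finset.mem_singleton.1 hi
        exact ⟨c3', Subgroup.subset_closure ⟨1, rfl⟩, rfl⟩
    obtain ⟨z, hz, hzg⟩ := this hg
    obtain rfl : z = ⟨g, hg⟩ := Subtype.ext hzg
    exact hz
  · intro G _ w hw
    simp only [Finset.mem_insert, Finset.mem_singleton, forall_eq_or_imp, forall_eq, x, y, map_mul, map_pow,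
      FreeGroup.lift_apply_of] at hw
    obtain ⟨w1, w2, w3⟩ := hw
    obtain ⟨f, hf⟩ := car_hom hs (fun i => if i = 2 then w 0 else w 1) ⟨fun i hi => by
      rcases Finset.mem_insert.1 hi with rfl | hi
      · simpa using w1
      · obtain rfl := Finset.mem_singleton.1 hi
        simpa using w2, fun i hi l hl hil => by
      rcases Finset.mem_insert.1 hi with rfl | hi <;> rcases Finset.mem_insert.1 hl with rfl | hl
      · exact absurd rfl hil
      · obtain rfl := Finset.mem_singleton.1 hl; simpa using w3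
      · obtain rfl := Finset.mem_singleton.1 hi; simpa using pair_symm w3
      · obtain rfl := Finset.mem_singleton.1 hi
        obtain rfl := Finset.mem_singleton.1 hl
        exact absurd rfl hil⟩
    refine ⟨f, fun i => ?_⟩
    fin_cases i
    · exact (hf 2 (by decide)).trans (if_pos rfl)
    · exact (hf 3 (by decide)).trans (if_neg (by decide))

/-- An alternating group of degree `m` needs at most two generators, and `m - 2` for small degrees. -/
theorem alt_gens (α : Type*) [Fintype α] [DecidableEq α] :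
    ∃ g : Finset (alternatingGroup α), g.card ≤ min 2 (Fintype.card α - 2) ∧
      Subgroup.closure (g : Set (alternatingGroup α)) = ⊤ := by
  classical
  rcases Nat.lt_or_ge (Fintype.card α) 5 with hc | hc
  · rcases Nat.lt_or_ge (Fintype.card α) 2 with h1 | h1
    · haveI : Subsingleton α := Fintype.card_le_one_iff_subsingleton.1 (by omega)
      exact ⟨∅, by simp, Subsingleton.elim _ _⟩
    obtain ⟨a, b, hab⟩ := Fintype.exists_pair_of_one_lt_card (α := α) (by omega)
    set s : Finset α := ({a, b} : Finset α)ᶜ with hs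
    have hgood : Good a b s := by
      refine ⟨hab, ?_, ?_⟩ <;> simp [hs]
    have hfull := Cs_eq_alternating hgood (fun x h0 h1 => by simp [hs, h0, h1])
    have hmem : ∀ i ∈ s, cyc a b i ∈ alternatingGroup α := fun i hi => hfull ▸ cyc_mem hi
    refine ⟨s.attach.image fun i => ⟨cyc a b i.1, hmem i.1 i.2⟩, ?_, ?_⟩
    · refine Finset.card_image_le.trans ?_
      rw [Finset.card_attach, hs, Finset.card_compl, Finset.card_pair hab]
      omega
    · rw [eq_top_iff]
      rintro ⟨g, hg⟩ -
      have : Cs a b s ≤ (Subgroup.closure (↑(s.attach.image fun i => (⟨cyc a b i.1, hmem i.1 i.2⟩ :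
          alternatingGroup α)) : Set (alternatingGroup α))).map (alternatingGroup α).subtype := by
        rw [Cs, Subgroup.closure_le]
        rintro _ ⟨i, hi, rfl⟩
        exact ⟨_, Subgroup.subset_closure (Finset.mem_coe.2 (Finset.mem_image.2
          ⟨⟨i, Finset.mem_coe.1 hi⟩, Finset.mem_attach _ _, rfl⟩)), rfl⟩
      obtain ⟨z, hz, hzg⟩ := this (hfull.ge hg)
      obtain rfl : z = ⟨g, hg⟩ := Subtype.ext hzg
      exact hz
  · obtain ⟨R, e, -, hgen⟩ := (ShortPres.pres7_fin _ hc).2
    let f := Equiv.altCongrHom (Fintype.equivFin α).symm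
    refine ⟨{f (e (PresentedGroup.of 1)), f (e (PresentedGroup.of 2))}, Finset.card_le_two.trans (by omega), ?_⟩
    have := congrArg (Subgroup.map f.toMonoidHom) hgen
    rw [MonoidHom.map_closure, Subgroup.map_top_of_surjective _ f.surjective, Set.image_pair] at this
    rw [Finset.coe_pair]
    exact this

universe u

/-- More generators, one relation each. -/
theorem pad {T : Type u} [Group T] {α : Type} [Fintype α] {R : Finset (FreeGroup α)}
    (h : Nonempty (PresentedGroup (↑R : Set (FreeGroup α)) ≃* T)) {m : ℕ} (hm : Fintype.card α ≤ m) :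
    ∃ S : Finset (FreeGroup (Fin m)), S.card ≤ R.card + (m - Fintype.card α) ∧
      Nonempty (PresentedGroup (↑S : Set (FreeGroup (Fin m))) ≃* T) := by
  classical
  obtain ⟨e⟩ := h
  let g : α ⊕ Fin (m - Fintype.card α) ≃ Fin m := Fintype.equivFinOfCardEq (by
    rw [Fintype.card_sum, Fintype.card_fin]; omega)
  let v : Fin m → T := fun i => Sum.elim (fun a => e (PresentedGroup.of a)) (fun _ => 1) (g.symm i)
  let S := R.image (FreeGroup.map fun a => g (Sum.inl a)) ∪
    Finset.univ.image fun j => FreeGroup.of (g (Sum.inr j))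
  have hl : (FreeGroup.lift v).comp (FreeGroup.map fun a => g (Sum.inl a)) =
      e.toMonoidHom.comp (PresentedGroup.mk _) :=
    FreeGroup.ext_hom _ _ fun a => by simp [v]; rfl
  refine ⟨S, (Finset.card_union_le _ _).trans (Nat.add_le_add Finset.card_image_le
    (Finset.card_image_le.trans (le_of_eq (Fintype.card_fin _)))), ?_⟩
  refine (exists_equiv S v ?_ ?_ ?_).elim fun e' _ => ⟨e'⟩
  · intro x hx
    simp only [S, Finset.mem_union, Finset.mem_image, Finset.mem_univ, true_and] at hx
    rcases hx with ⟨y, hy, rfl⟩ | ⟨j, rfl⟩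
    · refine (DFunLike.congr_fun hl y).trans ?_
      rw [MonoidHom.comp_apply, PresentedGroup.one_of_mem (Finset.mem_coe.2 hy), map_one]
    · simp [v]
  · rw [eq_top_iff, ← Subgroup.map_top_of_surjective e.toMonoidHom e.surjective,
      ← PresentedGroup.closure_range_of, MonoidHom.map_closure, Subgroup.closure_le]
    rintro _ ⟨_, ⟨a, rfl⟩, rfl⟩
    exact Subgroup.subset_closure ⟨g (Sum.inl a), by simp [v]⟩
  · intro G _ w hw _
    have hw' : ∀ x ∈ (↑R : Set (FreeGroup α)), FreeGroup.lift (fun a => w (g (Sum.inl a))) x = 1 := by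
      intro x hx
      rw [show FreeGroup.lift (fun a => w (g (Sum.inl a))) =
        (FreeGroup.lift w).comp (FreeGroup.map fun a => g (Sum.inl a)) from
          FreeGroup.ext_hom _ _ fun a => by simp]
      exact hw _ (Finset.mem_union_left _ (Finset.mem_image_of_mem _ (Finset.mem_coe.1 hx)))
    refine ⟨(PresentedGroup.toGroup hw').comp e.symm.toMonoidHom, fun i => ?_⟩
    obtain ⟨a | j, rfl⟩ := g.surjective i
    · show PresentedGroup.toGroup hw' (e.symm (Sum.elim _ _ (g.symm (g (Sum.inl a))))) = _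
      rw [g.symm_apply_apply, Sum.elim_inl, e.symm_apply_apply, PresentedGroup.toGroup.of]
    · show PresentedGroup.toGroup hw' (e.symm (Sum.elim _ _ (g.symm (g (Sum.inr j))))) = _
      rw [g.symm_apply_apply, Sum.elim_inr, map_one, map_one]
      have := hw _ (Finset.mem_union_right _ (Finset.mem_image_of_mem _ (Finset.mem_univ j)))
      rw [FreeGroup.lift_apply_of] at this
      exact this.symm

/-- One more relation for a quotient by a cyclic subgroup. -/
theorem quot_pres {T : Type u} [Group T] {α : Type} {R : Finset (FreeGroup α)}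
    (h : Nonempty (PresentedGroup (↑R : Set (FreeGroup α)) ≃* T)) (N : Subgroup T) [N.Normal] (z : T)
    (hz : z ∈ N) (hN : N ≤ Subgroup.zpowers z) :
    ∃ S : Finset (FreeGroup α), S.card ≤ R.card + 1 ∧
      Nonempty (PresentedGroup (↑S : Set (FreeGroup α)) ≃* T ⧸ N) := by
  classical
  obtain ⟨e⟩ := h
  set v : α → T := fun i => e (PresentedGroup.of i) with hv
  have hl : FreeGroup.lift v = e.toMonoidHom.comp (PresentedGroup.mk _) :=
    FreeGroup.ext_hom _ _ fun i => by rw [FreeGroup.lift_apply_of]; rfl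
  obtain ⟨u, hu⟩ := QuotientGroup.mk_surjective (e.symm z)
  have huz : FreeGroup.lift v u = z := by
    rw [hl, MonoidHom.comp_apply]
    show e (PresentedGroup.mk _ u) = z
    rw [show PresentedGroup.mk _ u = e.symm z from hu, e.apply_symm_apply]
  refine ⟨insert u R, Finset.card_insert_le _ _, ?_⟩
  refine (exists_equiv (insert u R) (fun i => QuotientGroup.mk' N (v i)) ?_ ?_ ?_).elim fun e' _ => ⟨e'⟩
  · intro x hx
    rw [show FreeGroup.lift (fun i => QuotientGroup.mk' N (v i)) =
      (QuotientGroup.mk' N).comp (FreeGroup.lift v) from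
        FreeGroup.ext_hom _ _ fun i => by simp, MonoidHom.comp_apply]
    rcases Finset.mem_insert.1 hx with h1 | h1
    · rw [h1, huz]; exact (QuotientGroup.eq_one_iff z).2 hz
    · rw [hl, MonoidHom.comp_apply, PresentedGroup.one_of_mem (Finset.mem_coe.2 h1), map_one, map_one]
  · rw [show (Set.range fun i => QuotientGroup.mk' N (v i)) =
      ((QuotientGroup.mk' N).comp e.toMonoidHom) '' Set.range PresentedGroup.of by
        rw [← Set.range_comp]; rfl, ← MonoidHom.map_closure, PresentedGroup.closure_range_of,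
      Subgroup.map_top_of_surjective ((QuotientGroup.mk' N).comp e.toMonoidHom)
        (show Function.Surjective (QuotientGroup.mk' N ∘ e) from (QuotientGroup.mk'_surjective N).comp e.surjective)]
  · intro G _ w hw _
    have hw' : ∀ x ∈ (↑R : Set (FreeGroup α)), FreeGroup.lift w x = 1 := fun x hx =>
      hw x (Finset.mem_insert_of_mem (Finset.mem_coe.1 hx))
    let f : T →* G := (PresentedGroup.toGroup hw').comp e.symm.toMonoidHom
    have hf : ∀ i, f (v i) = w i := fun i => by
      show PresentedGroup.toGroup hw' (e.symm (e _)) = _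
      rw [e.symm_apply_apply, PresentedGroup.toGroup.of]
    have hfz : f z = 1 := by
      rw [← huz, show f (FreeGroup.lift v u) = (f.comp (FreeGroup.lift v)) u from rfl,
        show f.comp (FreeGroup.lift v) = FreeGroup.lift w from
          FreeGroup.ext_hom _ _ fun i => by simp [hf]]
      exact hw u (Finset.mem_insert_self _ _)
    exact ⟨QuotientGroup.lift N f (hN.trans (Subgroup.zpowers_le.2 (MonoidHom.mem_ker.2 hfz))),
      fun i => hf i⟩

variable {K : Type*} [Field K] [Finite K]

/-- The count for given data of the alternating group and of `SL₃`. -/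
theorem sl_count_core {n b r m N c : ℕ} {j : Kˣ} (hcore : CoreB K j c) (hn : 4 ≤ n) (h : AltPres n b r)
    (hm : 3 + b ≤ m)
    (hN : c + r + 1 + min 2 (n - 2 - 2) + (if 6 ≤ n then 1 else 2) + (m - (3 + b)) ≤ N) :
    ∃ R : Finset (FreeGroup (Fin m)), R.card ≤ N ∧
      Nonempty (PresentedGroup (↑R : Set (FreeGroup (Fin m))) ≃* Matrix.SpecialLinearGroup (Fin n) K) := by
  classical
  obtain ⟨RA, vA, hRA, hvA, hgenA, huA⟩ := h
  obtain ⟨GS, hGS, hGSg⟩ := alt_gens {x : Fin n // x ≠ BoundedPres.pt hn 0 ∧ x ≠ BoundedPres.pt hn 1}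
  obtain ⟨u, hu⟩ := exists_theta_gen (F := K)
  have hcard : Fintype.card {x : Fin n // x ≠ BoundedPres.pt hn 0 ∧ x ≠ BoundedPres.pt hn 1} = n - 2 := by
    rw [Fintype.card_subtype, show Finset.univ.filter (fun x => x ≠ BoundedPres.pt hn 0 ∧ x ≠ BoundedPres.pt hn 1) =
      ({BoundedPres.pt hn 0, BoundedPres.pt hn 1} : Finset (Fin n))ᶜ by ext x; simp, Finset.card_compl,
      Finset.card_pair ((BoundedPres.pt_inj hn).ne (show (0 : Fin 4) ≠ 1 by decide)), Fintype.card_fin]
  rw [hcard] at hGS
  obtain ⟨T, hT, hTc⟩ : ∃ T : Finset (Matrix.SpecialLinearGroup (Fin 2) K),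
      FarSuff K hn u T ∧ T.card ≤ if 6 ≤ n then 1 else 2 := by
    by_cases h6 : 6 ≤ n
    · exact ⟨{u}, farSuff_one hn h6 u, by simp [h6]⟩
    · exact ⟨{u, theta u}, farSuff_two hn u, by rw [if_neg h6]; exact Finset.card_le_two⟩
  obtain ⟨R, hR, he⟩ := sl_pres hn hcore RA vA hRA hvA hgenA huA GS hGSg hu T hT
  obtain ⟨S, hS, hSe⟩ := pad he (m := m) (by rw [Fintype.card_sum, Fintype.card_fin, Fintype.card_fin]; exact hm)
  rw [Fintype.card_sum, Fintype.card_fin, Fintype.card_fin] at hS
  exact ⟨S, by omega, hSe⟩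

/-- The count for given data of the alternating group. -/
theorem sl_count {n b r m N : ℕ} (hn : 4 ≤ n) (h : AltPres n b r) (hm : 3 + b ≤ m)
    (hN : 13 + r + 1 + min 2 (n - 2 - 2) + (if 6 ≤ n then 1 else 2) + (m - (3 + b)) ≤ N) :
    ∃ R : Finset (FreeGroup (Fin m)), R.card ≤ N ∧
      Nonempty (PresentedGroup (↑R : Set (FreeGroup (Fin m))) ≃* Matrix.SpecialLinearGroup (Fin n) K) := by
  obtain ⟨_, hcore⟩ := main' (K := K)
  exact sl_count_core hcore hn h hm hN

theorem sl_seven {n : ℕ} (hn : 4 ≤ n) :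
    ∃ R : Finset (FreeGroup (Fin 7)), R.card ≤ 25 ∧
      Nonempty (PresentedGroup (↑R : Set (FreeGroup (Fin 7))) ≃* Matrix.SpecialLinearGroup (Fin n) K) := by
  rcases (show n = 4 ∨ n = 5 ∨ 6 ≤ n by omega) with rfl | rfl | h
  · exact sl_count hn altPres_four (by norm_num) (by norm_num)
  · exact sl_count hn altPres_five (by norm_num) (by norm_num)
  · refine sl_count hn (altPres_large (by omega)) (by norm_num) ?_
    rw [if_pos h, min_eq_left (by omega)]

theorem psl_seven {n : ℕ} (hn : 4 ≤ n) :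
    ∃ R : Finset (FreeGroup (Fin 7)), R.card ≤ 26 ∧
      Nonempty (PresentedGroup (↑R : Set (FreeGroup (Fin 7))) ≃* Matrix.ProjectiveSpecialLinearGroup (Fin n) K) := by
  obtain ⟨R, hR, he⟩ := sl_seven (K := K) hn
  let S := Matrix.SpecialLinearGroup (Fin n) K
  haveI : Nonempty (Fin n) := ⟨⟨0, by omega⟩⟩
  obtain ⟨z, hz⟩ : ∃ z : Subgroup.center S, ∀ x, x ∈ Subgroup.zpowers z := by
    haveI : IsCyclic (Subgroup.center S) :=
      isCyclic_of_surjective _
        (Matrix.SpecialLinearGroup.center_equiv_rootsOfUnity (n := Fin n) (R := K)).symm.surjective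
    exact IsCyclic.exists_generator
  have hN : Subgroup.center S ≤ Subgroup.zpowers (z : S) := fun x hx => by
    obtain ⟨k, hk⟩ := hz ⟨x, hx⟩
    exact ⟨k, congrArg Subtype.val hk⟩
  obtain ⟨R', hR', he'⟩ := quot_pres he (Subgroup.center S) (z : S) z.2 hN
  exact ⟨R', by omega, he'⟩

theorem sl_four :
    ∃ R : Finset (FreeGroup (Fin 6)), R.card ≤ 21 ∧
      Nonempty (PresentedGroup (↑R : Set (FreeGroup (Fin 6))) ≃* Matrix.SpecialLinearGroup (Fin 4) K) :=
  sl_count le_rfl altPres_four (by norm_num) (by norm_num)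

theorem sl_five :
    ∃ R : Finset (FreeGroup (Fin 6)), R.card ≤ 22 ∧
      Nonempty (PresentedGroup (↑R : Set (FreeGroup (Fin 6))) ≃* Matrix.SpecialLinearGroup (Fin 5) K) :=
  sl_count (by norm_num) altPres_five (by norm_num) (by norm_num)

end Cfsg.Agent.SLShort
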