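import Cfsg.Agent.Lib.SLPres.ShortThreeMain

/-!
`SL₃(q)` on four generators, one of which has its cube given in advance.
-/

set_option autoImplicit false
set_option linter.unusedSimpArgs false
set_option linter.unusedSectionVars false
set_option linter.style.haveILetI false

namespace Cfsg.Agent.SLShort

open Polynomial SLPres SLPres.Short
open SL2Pres (cj word map_cj map_word)
open scoped commutatorElement

local notation "S3" => Matrix.SpecialLinearGroup (Fin 3)

/-- At most `c` relators which present `SL₃` on the four generators once the third has order three. -/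
def CoreB (K : Type*) [Field K] (j : Kˣ) (c : ℕ) : Prop :=
  ∃ R : Finset (FreeGroup (Fin 4)), R.card ≤ c ∧
    (∀ r ∈ R, FreeGroup.lift ![(x₀ : S3 K), d₀ j, c₀, w₀] r = 1) ∧
    Subgroup.closure (Set.range ![(x₀ : S3 K), d₀ j, c₀, w₀]) = ⊤ ∧
    ∀ (G : Type) [Group G] (v : Fin 4 → G), (∀ r ∈ R, FreeGroup.lift v r = 1) → v 2 * v 2 * v 2 = 1 →
      ∃ φ : (S3 K) →* G, ∀ i, φ (![(x₀ : S3 K), d₀ j, c₀, w₀] i) = v i

/-- Thirteen such relators. -/
def Core (K : Type*) [Field K] (j : Kˣ) : Prop := CoreB K j 13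

theorem CoreB.mono {K : Type*} [Field K] {j : Kˣ} {c c' : ℕ} (h : CoreB K j c) (hc : c ≤ c') : CoreB K j c' := by
  obtain ⟨R, hR, h⟩ := h
  exact ⟨R, hR.trans hc, h⟩

variable {K : Type*} [Field K]

theorem c_cube : (c₀ : S3 K) * c₀ * c₀ = 1 := by
  apply Subtype.ext
  rw [v_mul, v_mul, v_one]
  ext a b
  fin_cases a <;> fin_cases b <;> simp [c₀, Matrix.mul_apply, Fin.sum_univ_three]

variable [Finite K]

theorem range_top_closure (j : Kˣ) (hB : Algebra.adjoin ℤ {(j : K)} = (⊤ : Subalgebra ℤ K)) :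
    Subgroup.closure (Set.range ![(x₀ : S3 K), d₀ j, c₀, w₀]) = ⊤ :=
  range_top j hB _ (Subgroup.subset_closure ⟨0, rfl⟩) (Subgroup.subset_closure ⟨1, rfl⟩)
    (Subgroup.subset_closure ⟨2, rfl⟩) (Subgroup.subset_closure ⟨3, rfl⟩)

variable {p : ℕ} [Fact p.Prime] [CharP K p] {j : Kˣ} {k : ℕ} {f : ℤ[X]} {S : Set K} {PS : K → ℤ[X]}

set_option maxHeartbeats 1600000 in
/-- Four generators with relations implying `Rel` present `SL₃`. -/
theorem assemble' (hj : ∀ t, t ∈ Subgroup.zpowers j)
    (hB : Algebra.adjoin ℤ {(j : K)} = (⊤ : Subalgebra ℤ K))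
    (hf : ∀ P : ℤ[X], aeval (j : K) P = 0 → ∃ Q R : ℤ[X], P = f * Q + C (p : ℤ) * R)
    (hk : j ^ k = -1) (hS : AddSubgroup.closure {t : K | ∃ s ∈ S, ∃ γ : Kˣ, t = s * (γ : K) ^ 3} = ⊤)
    (hS0 : ∀ s ∈ S, s ≠ 0) (hPS : ∀ s ∈ S, aeval (j : K) (PS s) = s)
    (L : List (FreeGroup (Fin 4))) {c : ℕ} (hL : L.length ≤ c)
    (hT : ∀ r ∈ L, FreeGroup.lift ![(x₀ : S3 K), d₀ j, c₀, w₀] r = 1)
    (hG : ∀ (G : Type) [Group G] (v : Fin 4 → G), (∀ r ∈ L, FreeGroup.lift v r = 1) →
      v 2 * v 2 * v 2 = 1 → Rel p j f k S PS (v 0) (v 1) (v 2) (v 3)) :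
    CoreB K j c := by
  classical
  refine ⟨L.toFinset, (List.toFinset_card_le L).trans hL, fun r hr => hT r (List.mem_toFinset.1 hr),
    range_top_closure j hB, fun G _ u hu hu3 => ?_⟩
  set L' : List (FreeGroup (Fin 4)) := FreeGroup.of 2 * FreeGroup.of 2 * FreeGroup.of 2 :: L with hL'
  have hT₀ : ∀ r ∈ L', FreeGroup.lift ![(x₀ : S3 K), d₀ j, c₀, w₀] r = 1 := by
    intro r hr
    rcases List.mem_cons.1 hr with rfl | hr
    · simp only [map_mul, FreeGroup.lift_apply_of]
      exact c_cube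
    · exact hT r hr
  set rels : Set (FreeGroup (Fin 4)) := ↑L'.toFinset with hrels
  have hT' : ∀ r ∈ rels, FreeGroup.lift ![(x₀ : S3 K), d₀ j, c₀, w₀] r = 1 := fun r hr =>
    hT₀ r (List.mem_toFinset.1 (Finset.mem_coe.1 hr))
  let π := PresentedGroup.toGroup hT'
  let v : Fin 4 → PresentedGroup rels := PresentedGroup.of
  have hv : ∀ r ∈ L', FreeGroup.lift v r = 1 := fun r hr => by
    have e : FreeGroup.lift v = PresentedGroup.mk rels := FreeGroup.ext_hom _ _ fun i => by
      rw [FreeGroup.lift_apply_of]; rfl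
    rw [e]
    exact PresentedGroup.one_of_mem (Finset.mem_coe.2 (List.mem_toFinset.2 hr))
  have R := hG _ v (fun r hr => hv r (List.mem_cons_of_mem _ hr))
    (by simpa only [map_mul, FreeGroup.lift_apply_of] using hv _ (List.mem_cons_self ..))
  obtain ⟨D, hx, -, hDc, hDd, hDw, hbraid⟩ := exists_data R hj hB hf hk hS hS0 hPS
  obtain ⟨f₁, hf₁⟩ := exists_hom_of_data D
  obtain ⟨π₀, hπ₀⟩ := exists_toSL 3 K
  let eS := MulEquiv.ofBijective π₀ (toSL_bijective 1 le_rfl π₀ hπ₀)
  let ψ : S3 K →* PresentedGroup rels := f₁.comp eS.symm.toMonoidHom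
  have hψ : ∀ (i l : Fin 3) (h : i ≠ l) (t : K),
      ψ (Matrix.SpecialLinearGroup.transvection h t) = D.y i l t := by
    intro i l h t
    have : eS.symm (Matrix.SpecialLinearGroup.transvection h t) = PresentedGroup.of (⟨(i, l), h⟩, t) :=
      eS.symm_apply_eq.2 (hπ₀ ⟨(i, l), h⟩ t).symm
    show f₁ (eS.symm _) = _
    rw [this]
    exact hf₁ ⟨(i, l), h⟩ t
  set N := ψ.range with hN
  have hy : ∀ (i l : Fin 3), i ≠ l → ∀ t, D.y i l t ∈ N := fun i l h t => ⟨_, hψ i l h t⟩
  haveI : Finite N := Finite.of_surjective ψ.rangeRestrict ψ.rangeRestrict_surjective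
  have hx1 : v 0 ∈ N := hx ▸ hy 0 1 (by decide) 1
  have hw1 : v 3 ∈ N := by
    rw [hbraid]
    exact mul_mem (mul_mem (hy 0 1 (by decide) _) (hy 1 0 (by decide) _)) (hy 0 1 (by decide) _)
  have stab : ∀ g, (∀ i l : Fin 3, i ≠ l → ∀ t, ∃ (i' l' : Fin 3) (t' : K), i' ≠ l' ∧
      g * D.y i l t * g⁻¹ = D.y i' l' t') → g ∈ Subgroup.normalizer (N : Set (PresentedGroup rels)) := by
    intro g hg
    have hle : ∀ n ∈ N, g * n * g⁻¹ ∈ N := by
      rintro _ ⟨s, rfl⟩
      have : (⊤ : Subgroup (S3 K)) ≤ (N.comap (MulAut.conj g).toMonoidHom).comap ψ := by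
        rw [← ClassicalSL.closure_elemTransvections, Subgroup.closure_le]
        rintro _ ⟨i, l, h, t, rfl⟩
        show g * ψ _ * g⁻¹ ∈ N
        obtain ⟨i', l', t', h', e⟩ := hg i l h t
        rw [hψ i l h t, e]
        exact hy i' l' h' t'
      exact this (Subgroup.mem_top s)
    rw [Subgroup.mem_normalizer_iff]
    refine fun n => ⟨hle n, fun hn => ?_⟩
    let φ : N → N := fun m => ⟨g * m.1 * g⁻¹, hle m.1 m.2⟩
    have hinj : Function.Injective φ := fun a b hab => Subtype.ext
      (mul_left_cancel (mul_right_cancel (congrArg Subtype.val hab :)))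
    obtain ⟨m, hm⟩ := (Finite.injective_iff_surjective.1 hinj) ⟨_, hn⟩
    have := (congrArg Subtype.val hm :)
    change g * m.1 * g⁻¹ = g * n * g⁻¹ at this
    rw [← mul_left_cancel (mul_right_cancel this)]
    exact m.2
  haveI hNn : N.Normal := by
    rw [← Subgroup.normalizer_eq_top_iff, eq_top_iff, ← PresentedGroup.closure_range_of rels,
      Subgroup.closure_le]
    rintro _ ⟨i, rfl⟩
    fin_cases i
    · exact Subgroup.le_normalizer hx1
    · exact stab (v 1) hDd
    · exact stab (v 2) hDc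
    · exact stab (v 3) hDw
  have hsurj : Function.Surjective ψ := by
    rw [← MonoidHom.range_eq_top, eq_top_iff, ← PresentedGroup.closure_range_of rels, Subgroup.closure_le]
    let qm := QuotientGroup.mk' N
    have q3 : qm (v 3) = 1 := (QuotientGroup.eq_one_iff _).2 hw1
    have e1 := congrArg qm R.wdw
    have e2 := congrArg qm R.prod
    have e3 := congrArg qm R.wcw
    simp only [map_mul, map_inv, map_pow, map_one, q3, one_mul, inv_one, mul_one] at e1 e2 e3
    have hd1 : qm (v 2) * qm (v 1) * (qm (v 2))⁻¹ = 1 := by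
      rw [eq_inv_iff_mul_eq_one.1 e1, one_mul] at e2
      have h4 : qm (v 2) * (qm (v 2) * qm (v 1) * (qm (v 2))⁻¹) * (qm (v 2))⁻¹ = 1 := e2
      exact mul_eq_left.1 (mul_inv_eq_one.1 h4)
    have hd : qm (v 1) = 1 := by
      rw [e1, hd1, inv_one]
    rw [hd, one_pow, mul_one] at e3
    rintro _ ⟨i, rfl⟩
    fin_cases i
    · exact hx1
    · exact (QuotientGroup.eq_one_iff _).1 hd
    · exact (QuotientGroup.eq_one_iff _).1 (mul_eq_left.1 e3.symm)
    · exact hw1
  have hπs : Function.Surjective π := by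
    rw [← MonoidHom.range_eq_top]
    exact range_top j hB _ ⟨v 0, PresentedGroup.toGroup.of hT'⟩ ⟨v 1, PresentedGroup.toGroup.of hT'⟩
      ⟨v 2, PresentedGroup.toGroup.of hT'⟩ ⟨v 3, PresentedGroup.toGroup.of hT'⟩
  haveI : Finite (PresentedGroup rels) := Finite.of_surjective ψ hsurj
  let eπ := MulEquiv.ofBijective π (hπs.bijective_of_nat_card_le (Nat.card_le_card_of_surjective ψ hsurj))
  have hu' : ∀ r ∈ rels, FreeGroup.lift u r = 1 := by
    intro r hr
    rcases List.mem_cons.1 (List.mem_toFinset.1 (Finset.mem_coe.1 hr)) with rfl | hr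
    · simpa only [map_mul, FreeGroup.lift_apply_of] using hu3
    · exact hu r (List.mem_toFinset.2 hr)
  refine ⟨(PresentedGroup.toGroup hu').comp eπ.symm.toMonoidHom, fun i => ?_⟩
  have he : eπ (PresentedGroup.of i) = ![(x₀ : S3 K), d₀ j, c₀, w₀] i := PresentedGroup.toGroup.of hT'
  rw [MonoidHom.comp_apply, ← he]
  show PresentedGroup.toGroup hu' (eπ.symm (eπ _)) = _
  rw [eπ.symm_apply_apply, PresentedGroup.toGroup.of]


theorem three_eq_zero {K : Type*} [Field K] [Finite K] (h9 : Nat.card K = 9) : (3 : K) = 0 := by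
  haveI := Fintype.ofFinite K
  have := FiniteField.cast_card_eq_zero K
  rw [← Nat.card_eq_fintype_card, h9] at this
  have h : (3 : K) * 3 = 0 := by
    rw [← this]; norm_num
  exact (mul_eq_zero.1 h).elim id id

theorem nine_poly {K : Type*} [Field K] [Finite K] (p : ℕ) [Fact p.Prime] [CharP K p] (h9 : Nat.card K = 9)
    {j : Kˣ} (hj : ∀ t, t ∈ Subgroup.zpowers j) (hj2 : (j : K) ^ 2 = (j : K) + 1) :
    aeval (j : K) (X ^ 2 - X - 1 : ℤ[X]) = 0 ∧
      ∀ P : ℤ[X], aeval (j : K) P = 0 → ∃ Q R : ℤ[X], P = (X ^ 2 - X - 1) * Q + C (p : ℤ) * R := by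
  have h3 : (3 : K) = 0 := three_eq_zero h9
  have h0 : aeval (j : K) (X ^ 2 - X - 1 : ℤ[X]) = 0 := by
    simp [hj2]
  refine ⟨h0, fun P hP => ?_⟩
  have hmon : (X ^ 2 - X - 1 : ℤ[X]).Monic := by monicity!
  have hdeg : (X ^ 2 - X - 1 : ℤ[X]).natDegree = 2 := by compute_degree!
  set r := P %ₘ (X ^ 2 - X - 1) with hr
  have hrd : r.natDegree ≤ 1 := by
    rcases eq_or_ne r 0 with e | e
    · simp [e]
    have := Polynomial.natDegree_modByMonic_lt P hmon (fun e => by simp [e] at hdeg)
    rw [← hr, hdeg] at this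
    omega
  obtain ⟨a, b, hab⟩ := Polynomial.exists_eq_X_add_C_of_natDegree_le_one hrd
  have hz : (a : K) * (j : K) + (b : K) = 0 := by
    have e : P = r + (X ^ 2 - X - 1) * (P /ₘ (X ^ 2 - X - 1)) := (Polynomial.modByMonic_add_div P _).symm
    rw [e, map_add, map_mul, h0, zero_mul, add_zero, hab] at hP
    simpa using hP
  have hp3 : p = 3 := by
    have : ((3 : ℕ) : K) = 0 := by exact_mod_cast h3
    exact (Nat.prime_dvd_prime_iff_eq Fact.out Nat.prime_three).1 ((CharP.cast_eq_zero_iff K p 3).1 this)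
  subst hp3
  have ho : orderOf (j : K) = 8 := by
    rw [orderOf_units, orderOf_eq_card_of_forall_mem_zpowers hj, Nat.card_units, h9]
  have hfix : ∀ z : ℤ, (z : K) ^ 3 = z := fun z => by
    rw [← map_intCast (ZMod.castHom (dvd_refl 3) K) z, ← map_pow, ZMod.pow_card]
  have ha : (a : K) = 0 := by
    by_contra ha
    have hjz : (j : K) ^ 3 = j := by
      have e : (j : K) = -(b : K) / (a : K) := by field_simp; linear_combination hz
      rw [e, div_pow, hfix a, neg_pow, hfix b]
      ring
    have : (j : K) ^ 2 = 1 := mul_left_cancel₀ j.ne_zero (by linear_combination hjz)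
    have := orderOf_dvd_of_pow_eq_one this
    rw [ho] at this
    norm_num at this
  have hb : (b : K) = 0 := by linear_combination hz - (j : K) * ha
  obtain ⟨a', rfl⟩ := (CharP.intCast_eq_zero_iff K 3 a).1 ha
  obtain ⟨b', rfl⟩ := (CharP.intCast_eq_zero_iff K 3 b).1 hb
  refine ⟨P /ₘ (X ^ 2 - X - 1), C a' * X + C b', ?_⟩
  conv_lhs => rw [← Polynomial.modByMonic_add_div P (X ^ 2 - X - 1)]
  rw [← hr, hab, map_mul, map_mul]
  ring

/-- Over nine elements the trinomial relation is the minimal polynomial. -/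
theorem word_nine {G : Type*} [Group G] {x h : G} (hc : Commute x (cj x h 1))
    (h2 : cj x h 2 = x * cj x h 1) : word x h 1 (X ^ 2 - X - 1 : ℤ[X]) = 1 := by
  have hdeg : (X ^ 2 - X - 1 : ℤ[X]).natDegree = 2 := by compute_degree!
  rw [word, hdeg]
  simp [List.range_succ, SL2Pres.cj_zero, Polynomial.coeff_X, Polynomial.coeff_one, h2]
  rw [← mul_assoc, hc.eq]
  group

set_option maxHeartbeats 1600000 in
/-- `SL₃(q)` needs thirteen relations besides the cube of the three-cycle, and twelve over nine elements. -/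
theorem main_count {K : Type*} [Field K] [Finite K] :
    ∃ j : Kˣ, CoreB K j (if Nat.card K = 9 then 12 else 13) := by
  classical
  obtain ⟨p, _⟩ := CharP.exists K
  haveI : Fact p.Prime := ⟨CharP.char_is_prime K p⟩
  obtain ⟨j, hj, hj9⟩ : ∃ j : Kˣ, (∀ t, t ∈ Subgroup.zpowers j) ∧
      (Nat.card K = 9 → (j : K) ^ 2 = (j : K) + 1) := by
    obtain ⟨j, hj⟩ := IsCyclic.exists_generator (α := Kˣ)
    by_cases h9 : Nat.card K = 9
    swap
    · exact ⟨j, hj, fun h => absurd h h9⟩
    have h3 : (3 : K) = 0 := three_eq_zero h9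
    have ho : orderOf (j : K) = 8 := by
      rw [orderOf_units, orderOf_eq_card_of_forall_mem_zpowers hj, Nat.card_units, h9]
    have h4 : (j : K) ^ 4 = -1 := by
      have h8 : (j : K) ^ 8 = 1 := by rw [← ho, pow_orderOf_eq_one]
      have hz : ((j : K) ^ 4 - 1) * ((j : K) ^ 4 + 1) = 0 := by linear_combination h8
      refine eq_neg_of_add_eq_zero_left ((mul_eq_zero.1 hz).resolve_left fun e => ?_)
      have := orderOf_dvd_of_pow_eq_one (sub_eq_zero.1 e)
      rw [ho] at this
      norm_num at this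
    have hq : ((j : K) ^ 2 - (j : K) - 1) * ((j : K) ^ 2 + (j : K) - 1) = 0 := by
      linear_combination h4 - (j : K) ^ 2 * h3
    rcases mul_eq_zero.1 hq with e | e
    · exact ⟨j, hj, fun _ => by linear_combination e⟩
    · have h25 : (-j) ^ 5 = j := Units.ext (by push_cast; linear_combination (-(j : K)) * h4)
      refine ⟨-j, fun t => ?_, fun _ => by push_cast; linear_combination e⟩
      exact Subgroup.zpowers_le.2 (show j ∈ Subgroup.zpowers (-j) by
        have := Subgroup.npow_mem_zpowers (-j) 5; rwa [h25] at this) (hj t)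
  have hB : Algebra.adjoin ℤ {(j : K)} = (⊤ : Subalgebra ℤ K) := by
    rw [eq_top_iff]
    intro t _
    by_cases ht : t = 0
    · rw [ht]; exact zero_mem _
    obtain ⟨i, hi⟩ := mem_powers_iff_mem_zpowers.2 (hj (Units.mk0 t ht))
    have : (j : K) ^ i = t := by
      rw [← Units.val_pow_eq_pow_val, show j ^ i = Units.mk0 t ht from hi]; rfl
    rw [← this]
    exact pow_mem (Algebra.subset_adjoin (Set.mem_singleton (j : K))) i
  obtain ⟨k, hk⟩ := mem_powers_iff_mem_zpowers.2 (hj (-1))
  change j ^ k = -1 at hk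
  haveI := Fintype.ofFinite K
  obtain ⟨f, hf0, hf, hf9⟩ : ∃ f : ℤ[X], aeval (j : K) f = 0 ∧
      (∀ P : ℤ[X], aeval (j : K) P = 0 → ∃ Q R : ℤ[X], P = f * Q + C (p : ℤ) * R) ∧
      (Nat.card K = 9 → f = X ^ 2 - X - 1) := by
    by_cases h9 : Nat.card K = 9
    · obtain ⟨a, b⟩ := nine_poly p h9 hj (hj9 h9)
      exact ⟨_, a, b, fun _ => rfl⟩
    · obtain ⟨f, a, b⟩ := SL2Pres.exists_minimal_lift p (j : K)
      exact ⟨f, a, b, fun h => absurd h h9⟩
  let x : FreeGroup (Fin 4) := FreeGroup.of 0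
  let d : FreeGroup (Fin 4) := FreeGroup.of 1
  let c : FreeGroup (Fin 4) := FreeGroup.of 2
  let w : FreeGroup (Fin 4) := FreeGroup.of 3
  let e : FreeGroup (Fin 4) := c * d * c⁻¹
  let one' : K → ℤ[X] := fun _ => C 1
  let prodR := d * e * (c * e * c⁻¹)
  let common : List (FreeGroup (Fin 4)) := [x ^ p, d * e * (e * d)⁻¹,
    e * x * e⁻¹ * (d * x * d⁻¹)⁻¹, w * c * w⁻¹ * (c * c * d ^ k)⁻¹, w * d * w⁻¹ * e,
    w * w * x * (x * (w * w))⁻¹, w * (x * (w * x * w⁻¹) * x)⁻¹,
    ⁅word x d 1 (C 1), c * x * c⁻¹⁆ * (zz x d c w (C 1))⁻¹,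
    x * zz x d c w (C 1) * (zz x d c w (C 1) * x)⁻¹]
  have R₀ : ∀ (S : Set K) (PS : K → ℤ[X]), Rel p j f k S PS (x₀ : S3 K) (d₀ j) c₀ w₀ := fun S PS =>
    rel₀ hk hf0
  have commonT : ∀ r ∈ common, FreeGroup.lift ![(x₀ : S3 K), d₀ j, c₀, w₀] r = 1 := by
    have R := R₀ {1} one'
    intro r hr
    simp only [common, List.mem_cons, List.not_mem_nil, or_false] at hr
    rcases hr with rfl | rfl | rfl | rfl | rfl | rfl | rfl | rfl | rfl <;>
      simp only [map_mul, map_inv, map_pow, map_word, map_commutatorElement, map_zz, x, d, c, w, e,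
        FreeGroup.lift_apply_of, mul_inv_eq_one] <;>
      simp only [Matrix.cons_val]
    · exact R.xp
    · exact R.de.eq
    · exact R.act
    · exact R.wcw
    · rw [R.wdw, inv_mul_cancel]
    · exact R.w2x.eq
    · exact R.braid
    · exact R.r4 1 rfl
    · exact (R.r5 1 rfl).eq
  have commonG : ∀ (G : Type) [Group G] (v : Fin 4 → G), (∀ r ∈ common, FreeGroup.lift v r = 1) →
      v 0 ^ p = 1 ∧ Commute (v 1) (v 2 * v 1 * (v 2)⁻¹) ∧
      v 2 * v 1 * (v 2)⁻¹ * v 0 * (v 2 * v 1 * (v 2)⁻¹)⁻¹ = v 1 * v 0 * (v 1)⁻¹ ∧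
      v 3 * v 2 * (v 3)⁻¹ = v 2 * v 2 * v 1 ^ k ∧
      v 3 * v 1 * (v 3)⁻¹ = (v 2 * v 1 * (v 2)⁻¹)⁻¹ ∧ Commute (v 3 * v 3) (v 0) ∧
      v 3 = v 0 * (v 3 * v 0 * (v 3)⁻¹) * v 0 ∧
      ⁅word (v 0) (v 1) 1 (C 1), v 2 * v 0 * (v 2)⁻¹⁆ = zz (v 0) (v 1) (v 2) (v 3) (C 1) ∧
      Commute (v 0) (zz (v 0) (v 1) (v 2) (v 3) (C 1)) := by
    intro G _ v hv
    simp only [common, List.mem_cons, List.not_mem_nil, or_false, forall_eq_or_imp, forall_eq] at hv
    simp only [map_mul, map_inv, map_pow, map_word, map_commutatorElement, map_zz, x, d, c, w, e,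
      FreeGroup.lift_apply_of, mul_inv_eq_one] at hv
    obtain ⟨h1, h2, h3, h5, h6, h7, h8, h9, h10⟩ := hv
    exact ⟨h1, h2, h3, h5, eq_inv_of_mul_eq_one_left h6, h7, h8, h9, h10⟩
  have hord : orderOf j = Nat.card K - 1 := by
    rw [orderOf_eq_card_of_forall_mem_zpowers hj, Nat.card_units]
  by_cases h4 : Nat.card K = 4
  · -- the field of four elements
    rw [if_neg (by omega)]
    have hp2 : p = 2 := by
      haveI := Fintype.ofFinite K
      obtain ⟨m, hm, hm'⟩ := FiniteField.card K p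
      rw [← Nat.card_eq_fintype_card, h4] at hm'
      have : p ∣ 2 ^ 2 := by
        rw [show 2 ^ 2 = 4 by norm_num, hm']; exact dvd_pow_self p m.ne_zero
      exact (Nat.prime_dvd_prime_iff_eq hm Nat.prime_two).1 (hm.dvd_of_dvd_pow this)
    have hj2 : (j : K) ^ 2 = 1 + (j : K) := by
      have h3 : (j : K) ^ 3 = 1 := by
        rw [← Units.val_pow_eq_pow_val, show 3 = orderOf j by rw [hord, h4], pow_orderOf_eq_one,
          Units.val_one]
      have hne : (j : K) - 1 ≠ 0 := by
        intro e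
        have : j = 1 := Units.ext (sub_eq_zero.1 e)
        rw [this, orderOf_one, h4] at hord
        omega
      have hz : ((j : K) - 1) * ((j : K) ^ 2 + (j : K) + 1) = 0 := by linear_combination h3
      have h2 : (2 : K) = 0 := by
        have := CharP.cast_eq_zero K p
        rw [hp2] at this
        simpa using this
      have := (mul_eq_zero.1 hz).resolve_left hne
      linear_combination this - ((j : K) + 1) * h2
    let PS : K → ℤ[X] := fun s => if s = 1 then C 1 else Polynomial.X
    have hj1 : (j : K) ≠ 1 := fun e => by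
      have : j = 1 := Units.ext e
      rw [this, orderOf_one, h4] at hord
      omega
    let extra : List (FreeGroup (Fin 4)) := [cj x d 2 * (x * cj x d 1)⁻¹, prodR * word x d 1 f,
      ⁅word x d 1 Polynomial.X, c * x * c⁻¹⁆ * (zz x d c w Polynomial.X)⁻¹,
      x * zz x d c w Polynomial.X * (zz x d c w Polynomial.X * x)⁻¹]
    refine ⟨j, ?_⟩
    refine assemble' (p := p) (S := {1, (j : K)}) (PS := PS) (k := k) hj hB hf hk ?_ ?_ ?_
      (common ++ extra) (by simp [common, extra]) ?_ ?_
    · rw [eq_top_iff]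
      intro t _
      by_cases ht : t = 0
      · rw [ht]; exact zero_mem _
      have m1 : (1 : K) ∈ {t : K | ∃ s ∈ ({1, (j : K)} : Set K), ∃ γ : Kˣ, t = s * (γ : K) ^ 3} :=
        ⟨1, Or.inl rfl, 1, by simp⟩
      have mj : (j : K) ∈ {t : K | ∃ s ∈ ({1, (j : K)} : Set K), ∃ γ : Kˣ, t = s * (γ : K) ^ 3} :=
        ⟨j, Or.inr rfl, 1, by simp⟩
      obtain ⟨i, hi⟩ := mem_powers_iff_mem_zpowers.2 (hj (Units.mk0 t ht))
      change j ^ i = _ at hi
      rw [← pow_mod_orderOf, hord, h4] at hi
      have hi' : t = (j : K) ^ (i % (4 - 1)) := by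
        rw [← Units.val_pow_eq_pow_val, hi, Units.val_mk0]
      have hlt : i % (4 - 1) < 3 := Nat.mod_lt _ (by norm_num)
      rw [hi']
      interval_cases i % (4 - 1)
      · simpa using AddSubgroup.subset_closure m1
      · simpa using AddSubgroup.subset_closure mj
      · rw [hj2]; exact add_mem (AddSubgroup.subset_closure m1) (AddSubgroup.subset_closure mj)
    · rintro s (rfl | rfl)
      · exact one_ne_zero
      · exact Units.ne_zero j
    · rintro s (rfl | rfl) <;> simp [PS, hj1]
    · intro r hr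
      rcases List.mem_append.1 hr with hr | hr
      · exact commonT r hr
      have R := R₀ {1, (j : K)} PS
      simp only [extra, List.mem_cons, List.not_mem_nil, or_false] at hr
      rcases hr with rfl | rfl | rfl | rfl <;>
        simp only [map_mul, map_inv, map_pow, map_cj, map_word, map_commutatorElement, map_zz, x, d, c, w,
          e, prodR, FreeGroup.lift_apply_of, mul_inv_eq_one] <;>
        simp only [Matrix.cons_val]
      · rw [x₀, ← x₀, cj_x₀, cj_x₀, x₀, E_add (by decide)]
        simp [hj2]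
      · rw [R.prod, one_mul]; exact R.fx
      · have := R.r4 j (Or.inr rfl)
        simp only [PS, if_neg hj1] at this
        exact this
      · have := R.r5 j (Or.inr rfl)
        simp only [PS, if_neg hj1] at this
        exact this.eq
    · intro G _ v hv g4
      obtain ⟨g1, g2, g3, g5, g6, g7, g8, g9, g10⟩ :=
        commonG G v fun r hr => hv r (List.mem_append_left _ hr)
      have hv' := fun r hr => hv r (List.mem_append_right common hr)
      simp only [extra, List.mem_cons, List.not_mem_nil, or_false, forall_eq_or_imp, forall_eq] at hv'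
      simp only [map_mul, map_inv, map_pow, map_cj, map_word, map_commutatorElement, map_zz, x, d, c, w, e,
        prodR, FreeGroup.lift_apply_of, mul_inv_eq_one] at hv'
      obtain ⟨hr2, hm, hr4, hr5⟩ := hv'
      have h0 : v 0 * v 0 = 1 := by rw [← pow_two]; rw [hp2] at g1; exact g1
      have hsq : ∀ i, cj (v 0) (v 1) i * cj (v 0) (v 1) i = 1 := fun i => by
        simp only [cj]
        rw [show v 1 ^ i * v 0 * (v 1 ^ i)⁻¹ * (v 1 ^ i * v 0 * (v 1 ^ i)⁻¹) =
          v 1 ^ i * (v 0 * v 0) * (v 1 ^ i)⁻¹ by group, h0, mul_one, mul_inv_cancel]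
      have hc1 : Commute (v 0) (cj (v 0) (v 1) 1) := by
        have := hsq 2
        rw [hr2, mul_eq_one_iff_eq_inv, _root_.mul_inv_rev, inv_eq_of_mul_eq_one_right h0,
          inv_eq_of_mul_eq_one_right (hsq 1)] at this
        exact this
      have hc : ∀ i : ℤ, Commute (v 0) (cj (v 0) (v 1) (i * 1)) :=
        SL2Pres.commute_all_of_trinomial hc1 hr2
      have hPd : Commute (v 1) (v 1 * (v 2 * v 1 * (v 2)⁻¹) *
          (v 2 * (v 2 * v 1 * (v 2)⁻¹) * (v 2)⁻¹)) := by
        have e1 := conj_comm' (v 2) (conj_comm' (v 2) g2)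
        rw [show v 2 * (v 2 * (v 2 * v 1 * (v 2)⁻¹) * (v 2)⁻¹) * (v 2)⁻¹ =
          v 2 * v 2 * v 2 * v 1 * (v 2 * v 2 * v 2)⁻¹ by group, g4, inv_one, one_mul, mul_one] at e1
        exact ((Commute.refl _).mul_right g2).mul_right e1.symm
      have hfx : word (v 0) (v 1) 1 f = 1 := by
        refine SL2Pres.eq_one_of_commute (v 0) (v 1) 1 hc hr2 (SL2Pres.word_mem_span _ _ _ f) ?_
        rw [eq_inv_of_mul_eq_one_right hm]
        exact hPd.inv_right
      rw [hfx, mul_one] at hm
      refine ⟨hc, g1, hfx, g2, hm, g3, g4, g5, g6, g7, g8, ?_, ?_⟩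
      · rintro s (rfl | rfl)
        · simpa [PS, zz] using g9
        · simpa [PS, zz, hj1] using hr4
      · rintro s (rfl | rfl)
        · simpa [PS, zz] using g10
        · have hr5' : Commute (v 0) (zz (v 0) (v 1) (v 2) (v 3) Polynomial.X) := hr5
          simpa [PS, zz, hj1] using hr5'
  · by_cases h9 : Nat.card K = 9
    · -- the field of nine elements
      rw [if_pos h9]
      obtain rfl := hf9 h9
      let extra : List (FreeGroup (Fin 4)) :=
        [x * cj x d 1 * (cj x d 1 * x)⁻¹, cj x d 2 * (x * cj x d 1)⁻¹, prodR]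
      refine ⟨j, ?_⟩
      refine assemble' (p := p) (S := {1}) (PS := one') (k := k) hj hB hf hk (cubes_span hj h4)
        (by simp) (by simp [one']) (common ++ extra) (by simp [common, extra]) ?_ ?_
      · intro r hr
        rcases List.mem_append.1 hr with hr | hr
        · exact commonT r hr
        have R := R₀ {1} one'
        simp only [extra, List.mem_cons, List.not_mem_nil, or_false] at hr
        rcases hr with rfl | rfl | rfl <;>
          simp only [map_mul, map_inv, map_pow, map_cj, x, d, c, w, e, prodR,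
            FreeGroup.lift_apply_of, mul_inv_eq_one] <;>
          simp only [Matrix.cons_val]
        · simpa using (R.hc 1).eq
        · rw [cj_x₀, cj_x₀, x₀, E_add (by decide)]
          simp [hj9 h9, add_comm]
        · exact R.prod
      · intro G _ v hv g4
        obtain ⟨g1, g2, g3, g5, g6, g7, g8, g9, g10⟩ :=
          commonG G v fun r hr => hv r (List.mem_append_left _ hr)
        have hv' := fun r hr => hv r (List.mem_append_right common hr)
        simp only [extra, List.mem_cons, List.not_mem_nil, or_false, forall_eq_or_imp, forall_eq] at hv'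
        simp only [map_mul, map_inv, map_pow, map_cj, x, d, c, w, e, prodR,
          FreeGroup.lift_apply_of, mul_inv_eq_one] at hv'
        obtain ⟨hc1, hv2, hp⟩ := hv'
        refine ⟨SL2Pres.commute_all_of_trinomial hc1 hv2, g1, ?_, g2, hp, g3, g4, g5, g6, g7, g8,
          fun s _ => g9, fun s _ => g10⟩
        exact word_nine hc1 hv2
    -- all other fields
    rw [if_neg h9]
    obtain ⟨r2, hr2T, hr2G⟩ : ∃ r2 : FreeGroup (Fin 4),
        FreeGroup.lift ![(x₀ : S3 K), d₀ j, c₀, w₀] r2 = 1 ∧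
        ∀ (G : Type) [Group G] (v : Fin 4 → G), FreeGroup.lift v r2 = 1 →
          Commute (v 0) (cj (v 0) (v 1) 1) → ∀ i : ℤ, Commute (v 0) (cj (v 0) (v 1) (i * 1)) := by
      by_cases hj0 : (1 : K) + (j : K) = 0
      · refine ⟨cj x d 1 * x, ?_, fun G _ v hv hc1 i => ?_⟩
        · simp only [map_mul, map_cj, x, d, FreeGroup.lift_apply_of]
          simp only [Matrix.cons_val]
          rw [cj_x₀, x₀, E_add (by decide), zpow_one, add_comm, hj0, E_zero (by decide)]
        · simp only [map_mul, map_cj, x, d, FreeGroup.lift_apply_of] at hv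
          rw [mul_one]
          have hstep : ∀ i : ℤ, cj (v 0) (v 1) (i + 1) = (cj (v 0) (v 1) i)⁻¹ := fun i => by
            rw [← SL2Pres.cj_shift, eq_inv_of_mul_eq_one_left hv]
            simp [cj, mul_assoc]
          induction i with
          | zero => rw [SL2Pres.cj_zero]
          | succ i ih => rw [hstep]; exact ih.inv_right
          | pred i ih =>
            have := hstep (-(i : ℤ) - 1)
            rw [sub_add_cancel] at this
            rw [← inv_inv (cj (v 0) (v 1) (-(i : ℤ) - 1)), ← this]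
            exact ih.inv_right
      · obtain ⟨α, hα⟩ := hj (Units.mk0 _ hj0)
        refine ⟨cj x d α * (x * cj x d 1)⁻¹, ?_, fun G _ v hv hc1 i => ?_⟩
        · simp only [map_mul, map_inv, map_cj, x, d, FreeGroup.lift_apply_of, mul_inv_eq_one]
          simp only [Matrix.cons_val]
          rw [cj_x₀, cj_x₀, x₀, E_add (by decide), zpow_one]
          change j ^ α = _ at hα
          rw [hα, Units.val_mk0]
        · simp only [map_mul, map_inv, map_cj, x, d, FreeGroup.lift_apply_of, mul_inv_eq_one] at hv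
          exact SL2Pres.commute_all_of_trinomial hc1 hv i
    let extra : List (FreeGroup (Fin 4)) :=
      [x * cj x d 1 * (cj x d 1 * x)⁻¹, r2, word x d 1 f, prodR]
    refine ⟨j, ?_⟩
    refine assemble' (p := p) (S := {1}) (PS := one') (k := k) hj hB hf hk (cubes_span hj h4)
      (by simp) (by simp [one']) (common ++ extra) (by simp [common, extra]) ?_ ?_
    · intro r hr
      rcases List.mem_append.1 hr with hr | hr
      · exact commonT r hr
      have R := R₀ {1} one'
      simp only [extra, List.mem_cons, List.not_mem_nil, or_false] at hr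
      rcases hr with rfl | rfl | rfl | rfl
      rotate_left
      · exact hr2T
      all_goals
        simp only [map_mul, map_inv, map_pow, map_cj, map_word, x, d, c, w, e, prodR,
          FreeGroup.lift_apply_of, mul_inv_eq_one]
        simp only [Matrix.cons_val]
      · exact R.fx
      · exact R.prod
      · simpa using (R.hc 1).eq
    · intro G _ v hv g4
      obtain ⟨g1, g2, g3, g5, g6, g7, g8, g9, g10⟩ :=
        commonG G v fun r hr => hv r (List.mem_append_left _ hr)
      have hv' := fun r hr => hv r (List.mem_append_right common hr)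
      simp only [extra, List.mem_cons, List.not_mem_nil, or_false, forall_eq_or_imp, forall_eq] at hv'
      simp only [map_mul, map_inv, map_pow, map_cj, map_word, x, d, c, w, e, prodR,
        FreeGroup.lift_apply_of, mul_inv_eq_one] at hv'
      obtain ⟨hc1, hv2, hfx, hp⟩ := hv'
      exact ⟨hr2G G v hv2 hc1, g1, hfx, g2, hp, g3, g4, g5, g6, g7, g8,
        fun s _ => g9, fun s _ => g10⟩

/-- `SL₃(q)` needs thirteen relations besides the cube of the three-cycle. -/
theorem main' {K : Type*} [Field K] [Finite K] : ∃ j : Kˣ, Core K j := by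
  obtain ⟨j, h⟩ := main_count (K := K)
  exact ⟨j, CoreB.mono h (by split_ifs <;> omega)⟩

end Cfsg.Agent.SLShort
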