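import Cfsg.Agent.Lib.Classical.DicksonPair
import Cfsg.Agent.Lib.PSL2Binary.BorelPrep
import Cfsg.Agent.Lib.SL2Pres.Universal

/-!
An element which generates `SL₂(q)` together with its conjugate under the exchange of the two coordinates.
-/

set_option autoImplicit false
set_option linter.unusedSectionVars false
set_option linter.unusedSimpArgs false
set_option linter.style.haveILetI false

namespace Cfsg.Agent.SLShort

open Matrix Cfsg.Agent.Dickson PStable

variable {F : Type*} [Field F]

local notation "SL2" => Matrix.SpecialLinearGroup (Fin 2) F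
local notation "M2" => Matrix (Fin 2) (Fin 2) F
local notation "P" => Matrix.ProjectiveSpecialLinearGroup (Fin 2) F
local notation "prH" => PSL2Inv.pr (F := F)

/-- Conjugation by the exchange of the two coordinates. -/
def theta : SL2 →* SL2 where
  toFun h := ⟨h.1.submatrix (Equiv.swap 0 1) (Equiv.swap 0 1), by
    rw [Matrix.det_submatrix_equiv_self]; exact h.2⟩
  map_one' := Subtype.ext (Matrix.submatrix_one_equiv _)
  map_mul' g h := Subtype.ext (Matrix.submatrix_mul_equiv g.1 h.1 _ _ _).symm

theorem theta_val (h : SL2) :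
    (theta h : SL2).1 = !![h.1 1 1, h.1 1 0; h.1 0 1, h.1 0 0] := by
  show h.1.submatrix (Equiv.swap 0 1) (Equiv.swap 0 1) = _
  apply PStable.ext2 <;> simp

theorem theta_theta (h : SL2) : theta (theta h) = h :=
  Subtype.ext (by rw [theta_val, theta_val]; apply PStable.ext2 <;> simp)

theorem theta_up (t : F) : theta (SL2Pres.up t) = SL2Pres.low t :=
  Subtype.ext (by rw [theta_val]; simp [SL2Pres.up_val, SL2Pres.low_val])

theorem theta_low (t : F) : theta (SL2Pres.low t) = SL2Pres.up t := by
  rw [← theta_up, theta_theta]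

variable [Finite F]

/-- A subgroup of `SL₂` covering the projective group is everything. -/
theorem lift_top (p : ℕ) [Fact p.Prime] [CharP F p] {G : Subgroup SL2} (h : G.map prH = ⊤) : G = ⊤ := by
  haveI := Fintype.ofFinite F
  have hpp : p.Prime := Fact.out
  by_cases hp2 : p = 2
  · have h2 : (2 : F) = 0 := by subst hp2; simpa using CharP.cast_eq_zero F 2
    refine eq_top_iff.2 fun x _ => ?_
    obtain ⟨g, hg, hgx⟩ : prH x ∈ G.map prH := h ▸ Subgroup.mem_top _
    rcases PSL2Inv.pr_eq_iff.1 hgx with h' | h'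
    · rw [h']; exact hg
    · rw [h', PSL2Binary.negOne_eq_one h2, one_mul]; exact hg
  have hsq : ∀ x : SL2, x ^ 2 ∈ G := by
    intro x
    obtain ⟨g, hg, hgx⟩ : prH x ∈ G.map prH := h ▸ Subgroup.mem_top _
    rcases PSL2Inv.pr_eq_iff.1 hgx with h' | h'
    · rw [h']; exact pow_mem hg 2
    · rw [h', pow_two, mul_assoc, ← mul_assoc g SL2Inv.negOne, ← SL2Inv.negOne_comm g, ← mul_assoc,
        ← mul_assoc, SL2Inv.negOne_mul_self, one_mul]
      exact mul_mem hg hg
  refine eq_top_iff.2 ?_
  rw [← ClassicalSL.closure_elemTransvections, Subgroup.closure_le]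
  rintro x ⟨i, j, hij, c, rfl⟩
  set t := Matrix.SpecialLinearGroup.transvection hij c
  have hpow : ∀ m : ℕ, t ^ m = Matrix.SpecialLinearGroup.transvection hij (m * c) := by
    intro m
    induction m with
    | zero => simp [Matrix.SpecialLinearGroup.transvection_coeff_zero]
    | succ m ih =>
      rw [pow_succ, ih, ← Matrix.SpecialLinearGroup.transvection_add, Nat.cast_succ, add_mul, one_mul]
  have hp' : t ^ p = 1 := by
    rw [hpow, CharP.cast_eq_zero, zero_mul, Matrix.SpecialLinearGroup.transvection_coeff_zero]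
  obtain ⟨m, hm⟩ : ∃ m, 2 * m = p + 1 := ⟨(p + 1) / 2, by
    have := hpp.eq_two_or_odd.resolve_left hp2
    omega⟩
  have ht : t = (t ^ 2) ^ m := by rw [← pow_mul, hm, pow_succ, hp', one_mul]
  rw [SetLike.mem_coe, ht]
  exact pow_mem (hsq t) m

/-- A criterion for two elements to generate the projective group, in characteristics two and three. -/
theorem pair_top (p : ℕ) [Fact p.Prime] [CharP F p] (u v : SL2)
    (hu2 : prH u ^ 2 ≠ 1) (hv2 : prH v ^ 2 ≠ 1) (hne : prH u * prH v ≠ prH v * prH u)
    (hchar : (p = 2 ∧ (u * v * u⁻¹ * v⁻¹ : SL2).1.trace ≠ 0) ∨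
      (p = 3 ∧ (u * v * u⁻¹ * v⁻¹ : SL2).1.trace ^ 2 ≠ 1 ∧ prH u ^ 3 ≠ 1 ∧ prH u ^ 5 ≠ 1))
    (hgen : ∀ E : Subfield F, (u * v : SL2).1.trace ^ 2 ∈ E → E = ⊤)
    {G : Subgroup P} (hu : prH u ∈ G) (hv : prH v ∈ G) : G = ⊤ := by
  classical
  by_contra hG
  have hne' : (⟨prH u, hu⟩ : G) * ⟨prH v, hv⟩ ≠ ⟨prH v, hv⟩ * ⟨prH u, hu⟩ := fun h =>
    hne (congrArg Subtype.val h)
  rcases classify_proper' p hG with ⟨k, -, hc⟩ | ⟨S, hS⟩ | ⟨h2, h3, -⟩ | ⟨h2, h3, -⟩ | ⟨h2, -, ⟨e⟩⟩ |
    ⟨K, _, _, m, hm2, hm, ⟨f, g, hg⟩, -⟩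
  · rcases hc with ⟨hc, -⟩ | ⟨⟨e⟩⟩
    · obtain ⟨a, ha⟩ := hc.exists_generator
      obtain ⟨i, hi⟩ := ha ⟨prH u, hu⟩
      obtain ⟨l, hl⟩ := ha ⟨prH v, hv⟩
      exact hne' (by rw [← hi, ← hl]; exact (Commute.zpow_zpow_self a i l).eq)
    · have hr : ∀ x : DihedralGroup k, x ^ 2 ≠ 1 → ∃ i, x = DihedralGroup.r i := by
        intro x hx
        cases x with
        | r i => exact ⟨i, rfl⟩
        | sr i => exact absurd (by rw [pow_two, DihedralGroup.sr_mul_self]) hx
      have hx : ∀ (y : P) (hy : y ∈ G), y ^ 2 ≠ 1 → e ⟨y, hy⟩ ^ 2 ≠ 1 := by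
        intro y hy hy2 h
        rw [← map_pow, e.map_eq_one_iff] at h
        exact hy2 (congrArg Subtype.val h :)
      obtain ⟨i, hi⟩ := hr _ (hx _ hu hu2)
      obtain ⟨l, hl⟩ := hr _ (hx _ hv hv2)
      refine hne' (e.injective ?_)
      rw [map_mul, map_mul, hi, hl, DihedralGroup.r_mul_r, DihedralGroup.r_mul_r, add_comm]
  · have hmem := (sylow_facts p S).2 _ (hS hu) _ (hS hv)
    rw [← map_inv, ← map_inv, ← map_mul, ← map_mul, ← map_mul] at hmem
    obtain ⟨φ, hφ, -⟩ := PSL2Binary.exists_triangular p S hS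
    have hp1 : prH (u * v * u⁻¹ * v⁻¹) ^ p = 1 := by
      refine φ.injective ?_
      rw [map_pow, map_one]
      obtain ⟨b, hb⟩ : φ (prH (u * v * u⁻¹ * v⁻¹)) ∈ (PSL2Binary.root : Subgroup P) :=
        hφ ▸ Subgroup.mem_map_of_mem φ.toMonoidHom hmem
      rw [← hb, ← map_pow, upp_pow_char b, map_one]
    have hsc : ¬ IsSc (u * v * u⁻¹ * v⁻¹) := by
      intro h
      refine hne ?_
      have := pr_eq_one.2 h
      rw [map_mul, map_mul, map_mul, map_inv, map_inv] at this
      exact mul_inv_eq_iff_eq_mul.1 (mul_inv_eq_one.1 this)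
    obtain ⟨t2, t3, -⟩ := trace_of_orders hsc
    rcases hchar with ⟨rfl, ht⟩ | ⟨rfl, ht, -, -⟩
    · exact ht (t2 hp1)
    · exact ht (t3 hp1)
  · rcases hchar with ⟨h, -⟩ | ⟨h, -⟩
    · exact h2 h
    · exact h3 h
  · rcases hchar with ⟨h, -⟩ | ⟨h, -⟩
    · exact h2 h
    · exact h3 h
  · rcases hchar with ⟨h, -⟩ | ⟨-, -, hu3, hu5⟩
    · exact h2 h
    rcases a5_orders (e ⟨prH u, hu⟩) with h | h | h | h
    · exact hu2 (by rw [show prH u = 1 from (congrArg Subtype.val (e.map_eq_one_iff.1 h) :), one_pow])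
    all_goals rw [← map_pow, e.map_eq_one_iff] at h
    · exact hu2 (congrArg Subtype.val h :)
    · exact hu3 (congrArg Subtype.val h :)
    · exact hu5 (congrArg Subtype.val h :)
  · induction g using ProjGenLinGroup.induction_on with | mk γ =>
    set w : SL2 := u * v with hw
    have hwG : prH w ∈ G := by rw [hw, map_mul]; exact mul_mem hu hv
    let C : SL2 →* SL2 := PStable.conjGL γ⁻¹
    obtain ⟨y, hy⟩ := hg _ hwG
    induction y using ProjGenLinGroup.induction_on with | mk M =>
    rw [ProjGenLinGroup.map_mk] at hy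
    have h : ProjGenLinGroup.mk (Matrix.SpecialLinearGroup.toGL (C w)) =
        ProjGenLinGroup.mk (GeneralLinearGroup.map f M) := by
      rw [hy, show Matrix.SpecialLinearGroup.toGL (C w) = γ * Matrix.SpecialLinearGroup.toGL w * γ⁻¹ from
        Units.ext (by simp [C, PStable.conjGL_val]), map_mul, map_mul, map_inv]
      rfl
    obtain ⟨c, hc⟩ := (ProjGenLinGroup.mk_eq_mk_iff).1 h
    have hM : (C w : SL2).1 * Matrix.scalar (Fin 2) (c : F) = (M : Matrix (Fin 2) (Fin 2) K).map f := by
      have := congrArg Units.val hc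
      rw [Units.val_mul, GeneralLinearGroup.coe_scalar] at this
      exact this
    have htr : (C w : SL2).1.trace = (w : M2).trace := by
      simp only [C, PStable.conjGL_val, inv_inv]
      rw [Matrix.trace_mul_comm, ← mul_assoc, ← Units.val_mul, inv_mul_cancel, Units.val_one, one_mul]
    have h1 : (w : M2).trace * c = f (M : Matrix (Fin 2) (Fin 2) K).trace := by
      rw [← htr, Matrix.trace_fin_two, Matrix.trace_fin_two, map_add]
      have e0 := congrFun (congrFun hM 0) 0
      have e1 := congrFun (congrFun hM 1) 1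
      rw [Matrix.scalar_apply, Matrix.mul_diagonal, Matrix.map_apply] at e0 e1
      rw [← e0, ← e1]; ring
    have h2 : (c : F) ^ 2 = f (M : Matrix (Fin 2) (Fin 2) K).det := by
      have := congrArg Matrix.det hM
      rw [Matrix.det_mul, (C w).2, one_mul, Matrix.scalar_apply, Matrix.det_diagonal, Fin.prod_univ_two,
        ← pow_two, ← RingHom.mapMatrix_apply, ← RingHom.map_det] at this
      exact this
    have hc0 : (c : F) ≠ 0 := c.ne_zero
    have hmem : (w : M2).trace ^ 2 ∈ f.fieldRange := by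
      refine ⟨(M : Matrix (Fin 2) (Fin 2) K).trace ^ 2 / (M : Matrix (Fin 2) (Fin 2) K).det, ?_⟩
      rw [map_div₀, map_pow, ← h1, ← h2, mul_pow, mul_div_assoc, div_self (pow_ne_zero 2 hc0), mul_one]
    have htop := hgen _ hmem
    haveI := Fintype.ofFinite F
    have hsurj : Function.Surjective f := fun x => by
      have : x ∈ f.fieldRange := htop ▸ Subfield.mem_top x
      exact this
    have hcard := Fintype.card_congr (Equiv.ofBijective f ⟨f.injective, hsurj⟩)
    rw [Nat.card_eq_fintype_card, ← hcard] at hm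
    have hK1 : 1 < Fintype.card K := Fintype.one_lt_card
    have := Nat.pow_le_pow_right (show 0 < Fintype.card K by omega) hm2
    rw [hm] at this
    nlinarith

/-- A subfield containing an element of multiplicative order more than half of the maximum is everything. -/
theorem subfield_top {x : F} (hx0 : x ≠ 0)
    (hord : Nat.card F - 1 ≤ 2 * orderOf x) (h4 : 4 ≤ Nat.card F) (E : Subfield F) (hx : x ∈ E) : E = ⊤ := by
  classical
  haveI := Fintype.ofFinite F
  haveI := Fintype.ofFinite E
  have hcard : Nat.card F = Nat.card E ^ Module.finrank E F := Module.natCard_eq_pow_finrank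
  have hle : orderOf x ≤ Nat.card E - 1 := by
    have hne : (⟨x, hx⟩ : E) ≠ 0 := fun e => hx0 (congrArg Subtype.val e)
    have h := congrArg Subtype.val (FiniteField.pow_card_sub_one_eq_one (⟨x, hx⟩ : E) hne)
    rw [← Nat.card_eq_fintype_card] at h
    refine Nat.le_of_dvd ?_ (orderOf_dvd_of_pow_eq_one (by simpa using h))
    have : 1 < Nat.card E := Finite.one_lt_card
    omega
  have h2 : 2 ≤ Nat.card E := Finite.one_lt_card
  rcases Nat.lt_or_ge (Module.finrank E F) 2 with h | h
  · have hpos : 0 < Module.finrank E F := Module.finrank_pos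
    rw [show Module.finrank E F = 1 by omega, pow_one] at hcard
    refine eq_top_iff.2 fun y _ => ?_
    have huniv : (E : Set F) = Set.univ := by
      refine Set.eq_of_subset_of_ncard_le (Set.subset_univ _) ?_
      rw [Set.ncard_univ, ← Nat.card_coe_set_eq]
      exact hcard.le
    exact (huniv ▸ Set.mem_univ y : y ∈ (E : Set F))
  · exfalso
    have hsq : Nat.card E ^ 2 ≤ Nat.card F := hcard ▸ Nat.pow_le_pow_right (by omega) h
    have : 2 * Nat.card E ≤ Nat.card E ^ 2 := by rw [pow_two]; exact Nat.mul_le_mul_right _ h2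
    omega

/-- The element used in characteristic two and over the field of nine elements. -/
def uel (j : Fˣ) : SL2 := ⟨!![(j : F), (j : F); 0, ((j⁻¹ : Fˣ) : F)], by simp [Matrix.det_fin_two]⟩

set_option maxHeartbeats 1000000 in
/-- An element generating with its exchanged conjugate, a root element apart from exceptional fields. -/
theorem exists_theta_gen_form : ∃ u : SL2, Subgroup.closure ({u, theta u} : Set SL2) = ⊤ ∧
    ((∃ t, u = SL2Pres.up t) ∨ (2 : F) = 0 ∨ Nat.card F = 9) := by
  classical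
  haveI := Fintype.ofFinite F
  obtain ⟨p, _⟩ := CharP.exists F
  haveI : Fact p.Prime := ⟨CharP.char_is_prime F p⟩
  have hpp : p.Prime := Fact.out
  obtain ⟨n, -, hn⟩ := FiniteField.card F p
  rw [← Nat.card_eq_fintype_card] at hn
  obtain ⟨j, hj⟩ := IsCyclic.exists_generator (α := Fˣ)
  have hord : orderOf (j : F) = Nat.card F - 1 := by
    rw [orderOf_units, orderOf_eq_card_of_forall_mem_zpowers hj, Nat.card_units]
  have hj0 : (j : F) ≠ 0 := j.ne_zero
  have hq : 1 < Nat.card F := Finite.one_lt_card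
  by_cases hq2 : Nat.card F = 2
  · refine ⟨SL2Pres.up 1, eq_top_iff.2 ?_, Or.inl ⟨1, rfl⟩⟩
    rw [← ClassicalSL.closure_elemTransvections, Subgroup.closure_le]
    rintro x ⟨i, l, hil, c, rfl⟩
    have hc : c = 0 ∨ c = 1 := by
      by_contra h
      push Not at h
      have hcard := Finset.card_le_univ ({c, 0, 1} : Finset F)
      rw [Finset.card_eq_three.2 ⟨c, 0, 1, h.1, h.2, zero_ne_one, rfl⟩, ← Nat.card_eq_fintype_card, hq2] at hcard
      omega
    rcases hc with rfl | rfl
    · rw [Matrix.SpecialLinearGroup.transvection_coeff_zero]; exact one_mem _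
    · fin_cases i <;> fin_cases l <;> first | exact absurd rfl hil | skip
      · refine Subgroup.subset_closure (Or.inl (Subtype.ext ?_))
        rw [Matrix.SpecialLinearGroup.transvection_coe, SL2Pres.up_val]
        apply PStable.ext2 <;> simp [Matrix.single_apply]
      · refine Subgroup.subset_closure (Or.inr (Subtype.ext ?_))
        rw [theta_up, Matrix.SpecialLinearGroup.transvection_coe, SL2Pres.low_val]
        apply PStable.ext2 <;> simp [Matrix.single_apply]
  by_cases hodd : p ≠ 2 ∧ Nat.card F ≠ 9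
  · obtain ⟨hp2, h9⟩ := hodd
    refine ⟨SL2Pres.up (j : F), ?_, Or.inl ⟨_, rfl⟩⟩
    set lam : F := (j : F) ^ 2 with hlam
    have hqo : Nat.card F % 2 = 1 := by
      rw [hn, Nat.pow_mod, (hpp.eq_two_or_odd).resolve_left hp2, one_pow]; norm_num
    have hgen : Subfield.closure ({lam} : Set F) = ⊤ := by
      rcases Nat.lt_or_ge (Nat.card F) 4 with h | h
      · refine eq_top_iff.2 fun y _ => ?_
        have hn1 : (n : ℕ) = 1 := by
          by_contra hne
          have h1 : p ^ 2 ≤ Nat.card F := hn ▸ Nat.pow_le_pow_right hpp.pos (by have := n.pos; omega)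
          have := Nat.mul_le_mul hpp.two_le hpp.two_le
          rw [← pow_two p] at this
          omega
        have hpF : Nat.card F = p := by rw [hn, hn1, pow_one]
        have hb := (ZMod.castHom_bijective (R := F) (n := p) (by rw [← Nat.card_eq_fintype_card, hpF]))
        obtain ⟨z, rfl⟩ := hb.2 y
        rw [← ZMod.natCast_zmod_val z, map_natCast]
        exact natCast_mem _ _
      · refine subfield_top (pow_ne_zero 2 hj0) ?_ h _ (Subfield.subset_closure rfl)
        rw [orderOf_pow' _ (by norm_num), hord]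
        have := Nat.gcd_le_right (n := 2) (Nat.card F - 1) (by norm_num)
        rcases (Nat.dvd_prime Nat.prime_two).1 (Nat.gcd_dvd_right (Nat.card F - 1) 2) with h' | h' <;>
          rw [h'] <;> omega
    -- conjugate by a diagonal matrix
    let g : GL (Fin 2) F := Matrix.GeneralLinearGroup.mkOfDetNeZero (Matrix.diagonal ![(j : F), 1])
      (by simp [Matrix.det_diagonal, Fin.prod_univ_two, hj0])
    set H := Subgroup.closure ({SL2Pres.up (j : F), theta (SL2Pres.up (j : F))} : Set SL2)
    have hg : ∀ X Y : SL2, (Y : M2) * (g : M2) = (g : M2) * (X : M2) → PStable.conjGL g⁻¹ X = Y := by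
      intro X Y h
      apply Subtype.ext
      rw [PStable.conjGL_val, inv_inv, ← h, mul_assoc, ← Units.val_mul, mul_inv_cancel, Units.val_one, mul_one]
    have hU : PStable.conjGL g⁻¹ (SL2Pres.up (j : F)) = PStable.upp lam := hg _ _ (by
      show (PStable.upp lam).1 * Matrix.diagonal _ = Matrix.diagonal _ * (SL2Pres.up (j : F)).1
      rw [PStable.upp_val, SL2Pres.up_val, hlam]
      apply PStable.ext2 <;> simp [Matrix.mul_apply, Fin.sum_univ_two, pow_two])
    have hL : PStable.conjGL g⁻¹ (theta (SL2Pres.up (j : F))) = PStable.low 1 := hg _ _ (by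
      show (PStable.low 1).1 * Matrix.diagonal _ = Matrix.diagonal _ * (theta (SL2Pres.up (j : F))).1
      rw [theta_up, PStable.low_val, SL2Pres.low_val]
      apply PStable.ext2 <;> simp [Matrix.mul_apply, Fin.sum_univ_two])
    have h1 : Subgroup.map (PStable.conjGL g⁻¹) H = ⊤ := by
      refine lift_top p ?_
      rcases pair_cases p hp2 (pow_ne_zero 2 hj0) hgen
        (G := (H.map (PStable.conjGL g⁻¹)).map prH)
        (Subgroup.mem_map_of_mem _ (hL ▸ Subgroup.mem_map_of_mem _ (Subgroup.subset_closure (Or.inr rfl))))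
        (Subgroup.mem_map_of_mem _ (hU ▸ Subgroup.mem_map_of_mem _ (Subgroup.subset_closure (Or.inl rfl))))
        with h | ⟨-, h, -⟩
      · exact h
      · exact absurd h h9
    refine Subgroup.eq_top_of_le_card _ ?_
    rw [← Subgroup.card_top (G := SL2), ← h1]
    exact Nat.le_of_dvd Nat.card_pos (Subgroup.card_map_dvd H _)
  -- characteristic two, or nine elements
  refine ⟨uel j, lift_top p ?_, Or.inr ?_⟩
  swap
  · by_cases hp2 : p = 2
    · subst hp2
      exact Or.inl (by simpa using CharP.cast_eq_zero F 2)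
    · exact Or.inr (by_contra fun h => hodd ⟨hp2, h⟩)
  set u : SL2 := uel j
  set v : SL2 := theta u
  have hu : (u : M2) = !![(j : F), (j : F); 0, (j : F)⁻¹] := by
    show !![(j : F), (j : F); 0, ((j⁻¹ : Fˣ) : F)] = _
    rw [Units.val_inv_eq_inv_val]
  have hv : (v : M2) = !![(j : F)⁻¹, 0; (j : F), (j : F)] := by
    show (theta u : SL2).1 = _
    rw [theta_val, hu]; simp
  have hw : (u * v : SL2).1.trace = 2 + (j : F) ^ 2 := by
    rw [Matrix.SpecialLinearGroup.coe_mul, hu, hv]
    simp [Matrix.trace_fin_two, Matrix.mul_apply, Fin.sum_univ_two, hj0]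
    ring
  have hne : prH u * prH v ≠ prH v * prH u := by
    rw [← map_mul, ← map_mul]
    intro h
    rcases PSL2Inv.pr_eq_iff.1 h with e | e
    · have := congrArg (fun x : SL2 => (x : M2) 0 0) e
      simp [Matrix.SpecialLinearGroup.coe_mul, hu, hv, Matrix.mul_apply, Fin.sum_univ_two, hj0] at this
    · have hjj := congrArg (fun x : SL2 => (x : M2) 0 0) e
      simp [Matrix.SpecialLinearGroup.coe_mul, SL2Inv.coe_negOne, hu, hv, Matrix.mul_apply, Fin.sum_univ_two, hj0] at hjj
      by_cases hp2 : p = 2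
      · subst hp2
        have h2 : (2 : F) = 0 := by simpa using CharP.cast_eq_zero F 2
        exact hj0 (pow_eq_zero_iff (n := 2) (by norm_num) |>.1 (by linear_combination hjj - h2))
      · have h9 : Nat.card F = 9 := by_contra fun h => hodd ⟨hp2, h⟩
        have hp3 : p = 3 := by
          have h' : p ∣ 3 ^ 2 := by rw [show (3 : ℕ) ^ 2 = 9 by norm_num, ← h9, hn]; exact dvd_pow_self p n.ne_zero
          exact (Nat.prime_dvd_prime_iff_eq hpp Nat.prime_three).1 (hpp.dvd_of_dvd_pow h')
        subst hp3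
        have h3 : (3 : F) = 0 := by exact_mod_cast CharP.cast_eq_zero F 3
        have h1 : (j : F) ^ 2 = 1 := by linear_combination hjj - h3
        have := Nat.le_of_dvd (by norm_num) (orderOf_dvd_of_pow_eq_one h1)
        omega
  have hku : (u * v * u⁻¹ * v⁻¹ : SL2).1.trace = 2 * (j : F) ^ 2 + 1 := by
    simp only [Matrix.SpecialLinearGroup.coe_mul, Matrix.SpecialLinearGroup.coe_inv, hu, hv]
    simp [Matrix.trace_fin_two, Matrix.mul_apply, Fin.sum_univ_two, Matrix.adjugate_fin_two]
    field_simp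
    ring
  have hpow : ∀ m, prH u ^ m = 1 → (j : F) ^ (2 * m) = 1 := by
    intro m hm
    rw [← map_pow] at hm
    have hdiag : ((u ^ m : SL2) : M2) 0 0 = (j : F) ^ m ∧ ((u ^ m : SL2) : M2) 1 1 = (j : F)⁻¹ ^ m ∧
        ((u ^ m : SL2) : M2) 1 0 = 0 := by
      clear hm
      induction m with
      | zero => simp
      | succ k ih =>
        obtain ⟨a, b, c⟩ := ih
        refine ⟨?_, ?_, ?_⟩ <;> rw [pow_succ u, Matrix.SpecialLinearGroup.coe_mul] <;>
          simp only [Matrix.mul_apply, Fin.sum_univ_two, a, b, c] <;> simp [hu, pow_succ]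
    obtain ⟨a, b, -⟩ := hdiag
    have hsc := (isSc_iff.1 (pr_eq_one.1 hm)).2.2
    rw [a, b, inv_pow] at hsc
    field_simp at hsc
    rw [pow_mul', pow_two]
    linear_combination hsc
  have hvu : ∀ m, prH v ^ m = 1 → prH u ^ m = 1 := by
    intro m hm
    rw [← map_pow] at hm ⊢
    rcases PSL2Inv.pr_eq_one_iff.1 hm with h | h <;> refine PSL2Inv.pr_eq_one_iff.2 ?_
    · left; rw [← theta_theta (u ^ m), map_pow theta u, h, map_one]
    · right
      rw [← theta_theta (u ^ m), map_pow theta u, h]
      exact Subtype.ext (by rw [theta_val, SL2Inv.coe_negOne]; apply PStable.ext2 <;> simp)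
  have hjpow : ∀ m, 0 < m → m < Nat.card F - 1 → (j : F) ^ m ≠ 1 := fun m h0 h1 h => by
    have := Nat.le_of_dvd h0 (orderOf_dvd_of_pow_eq_one h)
    omega
  by_cases hp2 : p = 2
  · subst hp2
    have h2 : (2 : F) = 0 := by simpa using CharP.cast_eq_zero F 2
    have hev : 4 ≤ Nat.card F ∧ Nat.card F % 2 = 0 := by
      obtain ⟨n, hn0⟩ := n
      rw [hn] at hq2 ⊢
      rcases n with _ | _ | n
      · omega
      · simp at hq2
      · have := Nat.one_le_two_pow (n := n)
        simp only [PNat.mk_coe, pow_succ]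
        omega
    have hcop : Nat.Coprime (Nat.card F - 1) 4 := by
      rw [show 4 = 2 ^ 2 by norm_num]
      refine Nat.Coprime.pow_right 2 (Nat.coprime_two_right.2 ?_)
      rw [Nat.odd_iff]; omega
    have h4ne : prH u ^ 2 ≠ 1 := fun h => by
      have h4 := orderOf_dvd_of_pow_eq_one (hpow 2 h)
      rw [hord] at h4
      have := Nat.eq_one_of_dvd_coprimes hcop dvd_rfl h4
      omega
    refine pair_top 2 u v h4ne (fun h => h4ne (hvu 2 h)) hne (Or.inl ⟨rfl, ?_⟩) ?_
      (Subgroup.mem_map_of_mem _ (Subgroup.subset_closure (Or.inl rfl)))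
      (Subgroup.mem_map_of_mem _ (Subgroup.subset_closure (Or.inr rfl)))
    · rw [hku, h2, zero_mul, zero_add]
      exact one_ne_zero
    · intro E hE
      rw [hw] at hE
      refine subfield_top (x := (j : F) ^ 4) (pow_ne_zero _ hj0) ?_ hev.1 E ?_
      · rw [orderOf_pow' _ (by norm_num), hord, hcop.gcd_eq_one]; omega
      · rwa [show ((j : F) ^ 4) = (2 + (j : F) ^ 2) ^ 2 by linear_combination (-2 * (j : F) ^ 2 - 2) * h2]
  · have h9 : Nat.card F = 9 := by_contra fun h => hodd ⟨hp2, h⟩
    have hp3 : p = 3 := by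
      have h' : p ∣ 3 ^ 2 := by rw [show (3 : ℕ) ^ 2 = 9 by norm_num, ← h9, hn]; exact dvd_pow_self p n.ne_zero
      exact (Nat.prime_dvd_prime_iff_eq hpp Nat.prime_three).1 (hpp.dvd_of_dvd_pow h')
    subst hp3
    have h3 : (3 : F) = 0 := by exact_mod_cast CharP.cast_eq_zero F 3
    have h4 : (j : F) ^ 4 = -1 := by
      have h8 : (j : F) ^ 8 = 1 := by
        rw [show 8 = orderOf (j : F) by omega, pow_orderOf_eq_one]
      have hz : ((j : F) ^ 4 - 1) * ((j : F) ^ 4 + 1) = 0 := by linear_combination h8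
      have := (mul_eq_zero.1 hz).resolve_left (sub_ne_zero.2 (hjpow 4 (by norm_num) (by omega)))
      linear_combination this
    have hum : ∀ m, ¬ 8 ∣ 2 * m → prH u ^ m ≠ 1 := fun m hm h => hm (by
      have := orderOf_dvd_of_pow_eq_one (hpow m h)
      rwa [show orderOf (j : F) = 8 by omega] at this)
    refine pair_top 3 u v (hum 2 (by norm_num)) (fun h => hum 2 (by norm_num) (hvu 2 h)) hne
      (Or.inr ⟨rfl, ?_, hum 3 (by norm_num), hum 5 (by norm_num)⟩) ?_
      (Subgroup.mem_map_of_mem _ (Subgroup.subset_closure (Or.inl rfl)))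
      (Subgroup.mem_map_of_mem _ (Subgroup.subset_closure (Or.inr rfl)))
    · rw [hku]
      intro h
      have hz : (j : F) ^ 2 * ((j : F) ^ 2 + 1) = 0 := by
        linear_combination h - ((j : F) ^ 4 + (j : F) ^ 2) * h3
      have h1 := (mul_eq_zero.1 hz).resolve_left (pow_ne_zero 2 hj0)
      exact hjpow 4 (by norm_num) (by omega) (by linear_combination ((j : F) ^ 2 - 1) * h1)
    · intro E hE
      rw [hw] at hE
      refine subfield_top (x := (j : F) ^ 2) (pow_ne_zero _ hj0) ?_ (by omega) E ?_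
      · rw [orderOf_pow' _ (by norm_num), hord, h9]; norm_num
      · rwa [show (j : F) ^ 2 = (2 + (j : F) ^ 2) ^ 2 by
          linear_combination -h4 - ((j : F) ^ 2 + 1) * h3]

/-- An element generating with its exchanged conjugate. -/
theorem exists_theta_gen : ∃ u : SL2, Subgroup.closure ({u, theta u} : Set SL2) = ⊤ := by
  obtain ⟨u, hu, -⟩ := exists_theta_gen_form (F := F)
  exact ⟨u, hu⟩

end Cfsg.Agent.SLShort
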