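import Cfsg.Agent.Lib.BoundedPres.SLn
import Cfsg.Agent.Lib.SLShort.Three
import Cfsg.Agent.Lib.SLShort.TwoGen

/-!
`SLₙ(q)` from a short presentation of `SL₃(q)` and one of the alternating group, with four more relations.
-/

set_option autoImplicit false
set_option linter.unusedSectionVars false
set_option linter.unusedSimpArgs false
set_option linter.style.haveILetI false

namespace Cfsg.Agent.SLShort

open Equiv Cfsg.Agent.BoundedPres
open SLPres.Short (x₀ d₀ c₀ w₀)
open scoped commutatorElement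

variable {K : Type*} [Field K]

theorem c_conj {a b : Fin 3} (h : a ≠ b) (t : K) :
    c₀ * tv 3 a b t * c₀⁻¹ = tv 3 (cp a) (cp b) t := by
  rw [mul_inv_eq_iff_eq_mul, tv, tv, SLPres.slData_y h, SLPres.slData_y (cp.injective.ne h)]
  apply Subtype.ext
  rw [SLPres.Short.v_mul, SLPres.Short.v_mul, Matrix.SpecialLinearGroup.transvection_coe,
    Matrix.SpecialLinearGroup.transvection_coe]
  ext x y
  fin_cases a <;> fin_cases b <;> first
    | exact absurd rfl h
    | (fin_cases x <;> fin_cases y <;>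
        simp [c₀, cp, Equiv.swap_apply_def, Matrix.mul_apply, Fin.sum_univ_three, Matrix.single_apply,
          Matrix.one_apply, Matrix.transvection])

theorem c_eq : (c₀ : Matrix.SpecialLinearGroup (Fin 3) K) =
    tv 3 0 1 (-1) * tv 3 1 0 1 * tv 3 0 1 (-1) * (tv 3 1 2 (-1) * tv 3 2 1 1 * tv 3 1 2 (-1)) := by
  rw [tv, tv, tv, tv, SLPres.slData_y (by decide), SLPres.slData_y (by decide), SLPres.slData_y (by decide),
    SLPres.slData_y (by decide)]
  apply Subtype.ext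
  simp only [Matrix.SpecialLinearGroup.coe_mul, Matrix.SpecialLinearGroup.transvection_coe]
  ext x y
  fin_cases x <;> fin_cases y <;>
    simp [c₀, Matrix.mul_apply, Fin.sum_univ_three, Matrix.single_apply, Matrix.one_apply, Matrix.transvection]

variable {n : ℕ} (hn : 4 ≤ n)

theorem row_op {i l : Fin n} (h : i ≠ l) (t : K) (M : Matrix (Fin n) (Fin n) K) (a b : Fin n) :
    ((tv n i l t : Matrix (Fin n) (Fin n) K) * M) a b = if a = i then M a b + t * M l b else M a b := by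
  rw [tv, SLPres.slData_y h, Matrix.SpecialLinearGroup.transvection_coe]
  split_ifs with ha
  · subst ha
    simp [Matrix.transvection, add_mul, Matrix.single_mul_apply_same]
  · simp [Matrix.transvection, add_mul, Matrix.single_mul_apply_of_ne, ha]

theorem c3_fix {x : Fin n} (h0 : x ≠ pt hn 0) (h1 : x ≠ pt hn 1) (h2 : x ≠ pt hn 2) :
    (c3 hn : Perm (Fin n)) x = x := by
  simp [c3, dswap, swap_apply_of_ne_of_ne, h0, h1, h2]

theorem tv_entry {i l : Fin n} (h : i ≠ l) (t : K) (a b : Fin n) :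
    (tv n i l t : Matrix (Fin n) (Fin n) K) a b =
      if a = i then (1 : Matrix (Fin n) (Fin n) K) a b + t * (1 : Matrix (Fin n) (Fin n) K) l b
      else (1 : Matrix (Fin n) (Fin n) K) a b := by
  have := row_op h t 1 a b
  rwa [Matrix.mul_one] at this

variable [Finite K]

theorem aut3_eq (h : Matrix.SpecialLinearGroup (Fin 3) K) : aut3 K h = c₀ * h * c₀⁻¹ :=
  DFunLike.congr_fun (sl_ext (by norm_num) (f := aut3 K) (g := (MulAut.conj c₀).toMonoidHom)
    fun a b hab t => by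
      rw [aut3_tv hab]
      exact (c_conj hab t).symm) h

theorem pm_c3 : pm n K (c3 hn) = i3 K hn c₀ := by
  have e : i3 K hn c₀ = tv n (pt hn 0) (pt hn 1) (-1) * (tv n (pt hn 1) (pt hn 0) 1 *
      (tv n (pt hn 0) (pt hn 1) (-1) * (tv n (pt hn 1) (pt hn 2) (-1) *
      (tv n (pt hn 2) (pt hn 1) 1 * (tv n (pt hn 1) (pt hn 2) (-1) * 1))))) := by
    rw [c_eq, mul_one, map_mul, map_mul, map_mul, map_mul, map_mul, i3_tv hn (by decide), i3_tv hn (by decide),
      i3_tv hn (by decide), i3_tv hn (by decide), mul_assoc, mul_assoc, mul_assoc]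
    rfl
  rw [e]
  have hp := pt_inj hn
  have h01 : pt hn 0 ≠ pt hn 1 := hp.ne (by decide)
  have h12 : pt hn 1 ≠ pt hn 2 := hp.ne (by decide)
  have h02 : pt hn 0 ≠ pt hn 2 := hp.ne (by decide)
  apply Subtype.ext
  ext a b
  simp only [Matrix.SpecialLinearGroup.coe_mul, Matrix.SpecialLinearGroup.coe_one]
  change ((c3 hn : Perm (Fin n))⁻¹).permMatrix K a b = _
  have hL : ((c3 hn : Perm (Fin n))⁻¹).permMatrix K a b = if (c3 hn : Perm (Fin n)) b = a then 1 else 0 := by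
    simp [Perm.permMatrix, PEquiv.toMatrix_apply, Perm.inv_def, Equiv.symm_apply_eq, Equiv.eq_symm_apply, eq_comm]
  rw [hL]
  have k0 : (c3 hn : Perm (Fin n)) (pt hn 0) = pt hn 1 := c3_e3 hn 0
  have k1 : (c3 hn : Perm (Fin n)) (pt hn 1) = pt hn 2 := c3_e3 hn 1
  have k2 : (c3 hn : Perm (Fin n)) (pt hn 2) = pt hn 0 := c3_e3 hn 2
  have cases4 : ∀ x : Fin n, x = pt hn 0 ∨ x = pt hn 1 ∨ x = pt hn 2 ∨
      (x ≠ pt hn 0 ∧ x ≠ pt hn 1 ∧ x ≠ pt hn 2) := fun x => by tauto
  rcases cases4 b with rfl | rfl | rfl | ⟨b0, b1, b2⟩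
  · rw [k0]
    rcases cases4 a with rfl | rfl | rfl | ⟨a0, a1, a2⟩
    · simp [row_op h01, tv_entry h12, row_op h01.symm, row_op h12, row_op h12.symm, Matrix.one_apply, h01, h02, h12, h01.symm, h02.symm, h12.symm]
    · simp [row_op h01, tv_entry h12, row_op h01.symm, row_op h12, row_op h12.symm, Matrix.one_apply, h01, h02, h12, h01.symm, h02.symm, h12.symm]
    · simp [row_op h01, tv_entry h12, row_op h01.symm, row_op h12, row_op h12.symm, Matrix.one_apply, h01, h02, h12, h01.symm, h02.symm, h12.symm]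
    · simp [row_op h01, tv_entry h12, row_op h01.symm, row_op h12, row_op h12.symm, Matrix.one_apply, h01, h02, h12, h01.symm, h02.symm, h12.symm, a0, a1, a2, Ne.symm a0, Ne.symm a1, Ne.symm a2]
  · rw [k1]
    rcases cases4 a with rfl | rfl | rfl | ⟨a0, a1, a2⟩
    · simp [row_op h01, tv_entry h12, row_op h01.symm, row_op h12, row_op h12.symm, Matrix.one_apply, h01, h02, h12, h01.symm, h02.symm, h12.symm]
    · simp [row_op h01, tv_entry h12, row_op h01.symm, row_op h12, row_op h12.symm, Matrix.one_apply, h01, h02, h12, h01.symm, h02.symm, h12.symm]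
    · simp [row_op h01, tv_entry h12, row_op h01.symm, row_op h12, row_op h12.symm, Matrix.one_apply, h01, h02, h12, h01.symm, h02.symm, h12.symm]
    · simp [row_op h01, tv_entry h12, row_op h01.symm, row_op h12, row_op h12.symm, Matrix.one_apply, h01, h02, h12, h01.symm, h02.symm, h12.symm, a0, a1, a2, Ne.symm a0, Ne.symm a1, Ne.symm a2]
  · rw [k2]
    rcases cases4 a with rfl | rfl | rfl | ⟨a0, a1, a2⟩
    · simp [row_op h01, tv_entry h12, row_op h01.symm, row_op h12, row_op h12.symm, Matrix.one_apply, h01, h02, h12, h01.symm, h02.symm, h12.symm]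
    · simp [row_op h01, tv_entry h12, row_op h01.symm, row_op h12, row_op h12.symm, Matrix.one_apply, h01, h02, h12, h01.symm, h02.symm, h12.symm]
    · simp [row_op h01, tv_entry h12, row_op h01.symm, row_op h12, row_op h12.symm, Matrix.one_apply, h01, h02, h12, h01.symm, h02.symm, h12.symm]
    · simp [row_op h01, tv_entry h12, row_op h01.symm, row_op h12, row_op h12.symm, Matrix.one_apply, h01, h02, h12, h01.symm, h02.symm, h12.symm, a0, a1, a2, Ne.symm a0, Ne.symm a1, Ne.symm a2]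
  · rw [c3_fix hn b0 b1 b2]
    rcases cases4 a with rfl | rfl | rfl | ⟨a0, a1, a2⟩
    · simp [row_op h01, tv_entry h12, row_op h01.symm, row_op h12, row_op h12.symm, Matrix.one_apply, h01, h02, h12, h01.symm, h02.symm, h12.symm, b0, b1, b2, Ne.symm b0, Ne.symm b1, Ne.symm b2]
    · simp [row_op h01, tv_entry h12, row_op h01.symm, row_op h12, row_op h12.symm, Matrix.one_apply, h01, h02, h12, h01.symm, h02.symm, h12.symm, b0, b1, b2, Ne.symm b0, Ne.symm b1, Ne.symm b2]
    · simp [row_op h01, tv_entry h12, row_op h01.symm, row_op h12, row_op h12.symm, Matrix.one_apply, h01, h02, h12, h01.symm, h02.symm, h12.symm, b0, b1, b2, Ne.symm b0, Ne.symm b1, Ne.symm b2]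
    · simp [row_op h01, tv_entry h12, row_op h01.symm, row_op h12, row_op h12.symm, Matrix.one_apply, h01, h02, h12, h01.symm, h02.symm, h12.symm, b0, b1, b2, Ne.symm b0, Ne.symm b1, Ne.symm b2, a0, a1, a2, Ne.symm a0, Ne.symm a1, Ne.symm a2]
      exact if_congr eq_comm rfl rfl

theorem s10_eq (h : Matrix.SpecialLinearGroup (Fin 2) K) : s10 K h = s01 K (theta h) :=
  DFunLike.congr_fun (sl2_ext (f := s10 K) (g := (s01 K).comp theta)
    (fun t => by rw [MonoidHom.comp_apply, theta_up, s10_up, s01_low])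
    fun t => by rw [MonoidHom.comp_apply, theta_low, s10_low, s01_up]) h

theorem ga_gb : ga hn * gb hn = gb hn * ga hn := by
  apply Subtype.ext
  ext x
  congr 1
  by_cases hx : ∃ a, pt hn a = x
  · obtain ⟨a, rfl⟩ := hx
    simp only [Subgroup.coe_mul, ga, gb, dswap, Perm.mul_apply, swp]
    exact congrArg (pt hn) (by revert a; decide)
  · push Not at hx
    simp [ga, gb, dswap, swap_apply_of_ne_of_ne, (hx 0).symm, (hx 1).symm, (hx 2).symm, (hx 3).symm]

theorem ga_sq : ga hn * ga hn = 1 := by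
  apply Subtype.ext
  ext x
  congr 1
  by_cases hx : ∃ a, pt hn a = x
  · obtain ⟨a, rfl⟩ := hx
    simp only [Subgroup.coe_mul, ga, dswap, Perm.mul_apply, swp, OneMemClass.coe_one, Perm.one_apply]
    exact congrArg (pt hn) (by revert a; decide)
  · push Not at hx
    simp [ga, dswap, swap_apply_of_ne_of_ne, (hx 0).symm, (hx 1).symm, (hx 2).symm, (hx 3).symm]

theorem conj_cyc {Ω : Type*} [DecidableEq Ω] {a b i : Ω} (hab : a ≠ b) (hia : i ≠ a) (hib : i ≠ b) :
    swap b i * swap b a = swap a b * swap a i := by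
  ext x
  by_cases hxa : x = a
  · subst hxa; simp [swap_apply_def, hab, hab.symm, hia, hia.symm, hib, hib.symm]
  by_cases hxb : x = b
  · subst hxb; simp [swap_apply_def, hab, hab.symm, hia, hia.symm, hib, hib.symm]
  by_cases hxi : x = i
  · subst hxi; simp [swap_apply_def, hab, hab.symm, hia, hia.symm, hib, hib.symm]
  simp [swap_apply_def, hxa, hxb, hxi]

variable (K)

/-- A set of elements whose far commutation with the chosen one gives that with its exchanged one too. -/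
def FarSuff (u : Matrix.SpecialLinearGroup (Fin 2) K) (T : Finset (Matrix.SpecialLinearGroup (Fin 2) K)) : Prop :=
  ∀ (G : Type) [Group G] (φ : Matrix.SpecialLinearGroup (Fin 3) K →* G) (ψ : alternatingGroup (Fin n) →* G),
    (∀ h, ψ (ga hn) * φ (s01 K h) * (ψ (ga hn))⁻¹ = φ (s10 K h)) →
    (∀ τ h, Commute (ψ (alt hn τ)) (φ (s01 K h))) →
    (∀ t ∈ T, Commute (φ (s01 K u)) (ψ (gb hn) * φ (s01 K t) * (ψ (gb hn))⁻¹)) →
    Commute (φ (s01 K u)) (ψ (gb hn) * φ (s01 K u) * (ψ (gb hn))⁻¹) ∧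
      Commute (φ (s01 K u)) (ψ (gb hn) * φ (s01 K (theta u)) * (ψ (gb hn))⁻¹)

variable {K}

theorem farSuff_two [DecidableEq (Matrix.SpecialLinearGroup (Fin 2) K)] (u : Matrix.SpecialLinearGroup (Fin 2) K) :
    FarSuff K hn u {u, theta u} := fun G _ φ ψ _ _ h =>
  ⟨h u (by simp), h (theta u) (by simp)⟩

set_option maxHeartbeats 1000000 in
theorem farSuff_one (h6 : 6 ≤ n) (u : Matrix.SpecialLinearGroup (Fin 2) K) : FarSuff K hn u {u} := by
  intro G _ φ ψ hexch hfix h
  have h1 := h u (Finset.mem_singleton_self u)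
  refine ⟨h1, ?_⟩
  have hp := pt_inj hn
  let p4 : Fin n := ⟨4, by omega⟩
  let p5 : Fin n := ⟨5, by omega⟩
  have h45 : p4 ≠ p5 := fun e => absurd (congrArg Fin.val e) (by norm_num [p4, p5])
  have hne : ∀ a : Fin 4, pt hn a ≠ p4 ∧ pt hn a ≠ p5 := fun a => by
    constructor <;> intro e <;> have := congrArg Fin.val e <;> simp [pt, p4, p5] at this <;> omega
  let τ : alternatingGroup (Fin n) := dswap (hp.ne (show (2 : Fin 4) ≠ 3 by decide)) h45
  have τpt : ∀ a, (τ : Perm (Fin n)) (pt hn a) = pt hn (swap 2 3 a) := fun a => by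
    simp only [τ, dswap, Perm.mul_apply]
    rw [swap_apply_of_ne_of_ne (hne a).1 (hne a).2, swp]
  obtain ⟨ρ, hρ⟩ := exists_alt hn ((gb hn * ga hn)⁻¹ * (τ * gb hn))
    (show ((gb hn : Perm (Fin n)) * ga hn)⁻¹ ((τ : Perm (Fin n)) ((gb hn : Perm (Fin n)) (pt hn 0))) = _ by
      rw [gb0, τpt, Perm.inv_def, Equiv.symm_apply_eq, Perm.mul_apply, ga0, gb1]; rfl)
    (show ((gb hn : Perm (Fin n)) * ga hn)⁻¹ ((τ : Perm (Fin n)) ((gb hn : Perm (Fin n)) (pt hn 1))) = _ by
      rw [gb1, τpt, Perm.inv_def, Equiv.symm_apply_eq, Perm.mul_apply, ga1, gb0]; rfl)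
  obtain ⟨ρ', hρ'⟩ := exists_alt hn τ (τpt 0) (τpt 1)
  set U := φ (s01 K u)
  have hT : ψ τ * U * (ψ τ)⁻¹ = U := by
    rw [← hρ', (hfix ρ' u).eq, mul_inv_cancel_right]
  have hS : ψ (alt hn ρ) * U * (ψ (alt hn ρ))⁻¹ = U := by
    rw [(hfix ρ u).eq, mul_inv_cancel_right]
  have key : τ * gb hn = gb hn * ga hn * alt hn ρ := by rw [hρ]; group
  have h2 : Commute (ψ τ * U * (ψ τ)⁻¹) (ψ τ * (ψ (gb hn) * U * (ψ (gb hn))⁻¹) * (ψ τ)⁻¹) :=
    (Commute.conj_iff (ψ τ)).2 h1
  rw [hT, show ψ τ * (ψ (gb hn) * U * (ψ (gb hn))⁻¹) * (ψ τ)⁻¹ = ψ (τ * gb hn) * U * (ψ (τ * gb hn))⁻¹ by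
      rw [map_mul]; group, key,
    show ψ (gb hn * ga hn * alt hn ρ) * U * (ψ (gb hn * ga hn * alt hn ρ))⁻¹ =
      ψ (gb hn) * (ψ (ga hn) * (ψ (alt hn ρ) * U * (ψ (alt hn ρ))⁻¹) * (ψ (ga hn))⁻¹) * (ψ (gb hn))⁻¹ by
      rw [map_mul, map_mul]; group, hS, hexch, s10_eq] at h2
  exact h2

set_option maxHeartbeats 1000000 in
/-- The count. -/
theorem sl_pres {j : Kˣ} {c : ℕ} (hcore : CoreB K j c) {β : Type} [Finite β] {rA : ℕ} (RA : Finset (FreeGroup β))
    (vA : β → alternatingGroup (Fin n)) (hRA : RA.card ≤ rA) (hvA : ∀ x ∈ RA, FreeGroup.lift vA x = 1)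
    (hgenA : Subgroup.closure (Set.range vA) = ⊤)
    (huA : ∀ (G : Type) [Group G] (w : β → G), (∀ x ∈ RA, FreeGroup.lift w x = 1) →
      ∃ f : alternatingGroup (Fin n) →* G, ∀ i, f (vA i) = w i)
    (GS : Finset (alternatingGroup {x : Fin n // x ≠ pt hn 0 ∧ x ≠ pt hn 1}))
    (hGS : Subgroup.closure (GS : Set (alternatingGroup {x : Fin n // x ≠ pt hn 0 ∧ x ≠ pt hn 1})) = ⊤)
    {u : Matrix.SpecialLinearGroup (Fin 2) K}
    (hu : Subgroup.closure ({u, theta u} : Set (Matrix.SpecialLinearGroup (Fin 2) K)) = ⊤)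
    (T : Finset (Matrix.SpecialLinearGroup (Fin 2) K)) (hT : FarSuff K hn u T) :
    ∃ R : Finset (FreeGroup (Fin 3 ⊕ β)), R.card ≤ c + rA + 1 + GS.card + T.card ∧
      Nonempty (PresentedGroup (↑R : Set (FreeGroup (Fin 3 ⊕ β))) ≃* Matrix.SpecialLinearGroup (Fin n) K) := by
  classical
  obtain ⟨R3, hR3, hv3, hgen3, hu3⟩ := hcore
  set g4 : Fin 4 → Matrix.SpecialLinearGroup (Fin 3) K := ![x₀, d₀ j, c₀, w₀] with hg4
  let v : Fin 3 ⊕ β → Matrix.SpecialLinearGroup (Fin n) K :=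
    Sum.elim (i3 K hn ∘ ![g4 0, g4 1, g4 3]) (pm n K ∘ vA)
  choose preA hpreA using fun x => exists_word vA (t := x) (hgenA ▸ Subgroup.mem_top x)
  let WA : alternatingGroup (Fin n) → FreeGroup (Fin 3 ⊕ β) := fun x => FreeGroup.map Sum.inr (preA x)
  let p4 : Fin 4 → FreeGroup (Fin 3 ⊕ β) :=
    ![FreeGroup.of (Sum.inl 0), FreeGroup.of (Sum.inl 1), WA (c3 hn), FreeGroup.of (Sum.inl 2)]
  choose pre3 hpre3 using fun x => exists_word g4 (t := x) (hgen3 ▸ Subgroup.mem_top x)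
  let W3 : Matrix.SpecialLinearGroup (Fin 3) K → FreeGroup (Fin 3 ⊕ β) := fun x =>
    FreeGroup.lift p4 (pre3 x)
  have hlA : (FreeGroup.lift v).comp (FreeGroup.map Sum.inr) = (pm n K).comp (FreeGroup.lift vA) :=
    FreeGroup.ext_hom _ _ fun i => by simp [v]
  have hvA' : ∀ x, FreeGroup.lift v (WA x) = pm n K x := fun x => by
    refine (DFunLike.congr_fun hlA (preA x)).trans ?_
    rw [MonoidHom.comp_apply, hpreA]
  have hl3 : (FreeGroup.lift v).comp (FreeGroup.lift p4) = (i3 K hn).comp (FreeGroup.lift g4) :=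
    FreeGroup.ext_hom _ _ fun i => by
      simp only [MonoidHom.comp_apply, FreeGroup.lift_apply_of]
      fin_cases i
      · exact FreeGroup.lift_apply_of
      · exact FreeGroup.lift_apply_of
      · show FreeGroup.lift v (WA (c3 hn)) = _
        rw [hvA', pm_c3]; rfl
      · exact FreeGroup.lift_apply_of
  have hv3' : ∀ x, FreeGroup.lift v (W3 x) = i3 K hn x := fun x => by
    refine (DFunLike.congr_fun hl3 (pre3 x)).trans ?_
    rw [MonoidHom.comp_apply, hpre3]
  let U := W3 (s01 K u)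
  let R := R3.image (FreeGroup.lift p4) ∪ RA.image (FreeGroup.map Sum.inr) ∪
    ({WA (ga hn) * U * (WA (ga hn))⁻¹ * (W3 (s10 K u))⁻¹} ∪
      GS.image (fun τ => ⁅WA (alt hn τ), U⁆) ∪
      T.image (fun t => ⁅U, WA (gb hn) * W3 (s01 K t) * (WA (gb hn))⁻¹⁆))
  refine ⟨R, ?_, ?_⟩
  · refine (Finset.card_union_le _ _).trans ((Nat.add_le_add ((Finset.card_union_le _ _).trans
      (Nat.add_le_add (Finset.card_image_le.trans hR3) (Finset.card_image_le.trans hRA)))
      ((Finset.card_union_le _ _).trans (Nat.add_le_add ((Finset.card_union_le _ _).trans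
      (Nat.add_le_add (le_of_eq (Finset.card_singleton _)) Finset.card_image_le)) Finset.card_image_le))).trans ?_)
    omega
  refine (exists_equiv R v ?_ ?_ ?_).elim fun e _ => ⟨e⟩
  · intro x hx
    simp only [R, Finset.mem_union, Finset.mem_image, Finset.mem_singleton] at hx
    rcases hx with (⟨y, hy, rfl⟩ | ⟨y, hy, rfl⟩) | ((rfl | ⟨τ, -, rfl⟩) | ⟨t, -, rfl⟩)
    · rw [show FreeGroup.lift v (FreeGroup.lift p4 y) = i3 K hn (FreeGroup.lift g4 y) from
        DFunLike.congr_fun hl3 y, hv3 y hy, map_one]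
    · rw [show FreeGroup.lift v (FreeGroup.map Sum.inr y) = pm n K (FreeGroup.lift vA y) from
        DFunLike.congr_fun hlA y, hvA y hy, map_one]
    · simp only [U, map_mul, map_inv, hvA', hv3', mul_inv_eq_one]
      exact T_two hn u
    · simp only [U, map_commutatorElement, hvA', hv3']
      exact commutatorElement_eq_one_iff_commute.2 (T_three hn τ u)
    · simp only [U, map_commutatorElement, map_mul, map_inv, hvA', hv3']
      exact commutatorElement_eq_one_iff_commute.2 (T_four hn u t)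
  · rw [eq_top_iff, ← zT_gen (K := K) hn, Subgroup.closure_le]
    rintro _ ⟨q, rfl⟩
    rw [zT_eq, ← hvA', ← hv3']
    exact mul_mem (mul_mem (lift_mem_closure v _) (lift_mem_closure v _)) (inv_mem (lift_mem_closure v _))
  intro G _ w hw _
  obtain ⟨ψ, hψ⟩ := huA G (w ∘ Sum.inr) fun x hx => by
    rw [← hw _ (Finset.mem_union_left _ (Finset.mem_union_right _ (Finset.mem_image_of_mem _ hx)))]
    exact DFunLike.congr_fun (f := FreeGroup.lift (w ∘ Sum.inr))
      (g := (FreeGroup.lift w).comp (FreeGroup.map Sum.inr)) (FreeGroup.ext_hom _ _ fun i => by simp) x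
  have hwA : ∀ x, FreeGroup.lift w (WA x) = ψ x := fun x => by
    refine (DFunLike.congr_fun (f := (FreeGroup.lift w).comp (FreeGroup.map Sum.inr))
      (g := ψ.comp (FreeGroup.lift vA)) (FreeGroup.ext_hom _ _ fun i => by simp [hψ]) (preA x)).trans ?_
    rw [MonoidHom.comp_apply, hpreA]
  have hc3 : c3 hn * c3 hn * c3 hn = 1 := by
    apply Subtype.ext
    ext x
    congr 1
    simp only [Subgroup.coe_mul, Perm.mul_apply, OneMemClass.coe_one, Perm.one_apply]
    by_cases hx : ∃ a : Fin 3, e3 hn a = x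
    · obtain ⟨a, rfl⟩ := hx
      rw [c3_e3, c3_e3, c3_e3]
      exact congrArg (e3 hn) (by revert a; decide)
    · push Not at hx
      rw [c3_fix hn (hx 0).symm (hx 1).symm (hx 2).symm, c3_fix hn (hx 0).symm (hx 1).symm (hx 2).symm,
        c3_fix hn (hx 0).symm (hx 1).symm (hx 2).symm]
  obtain ⟨φ, hφ⟩ := hu3 G (fun i => FreeGroup.lift w (p4 i)) (fun x hx => by
      rw [← hw _ (Finset.mem_union_left _ (Finset.mem_union_left _ (Finset.mem_image_of_mem _ hx)))]
      exact DFunLike.congr_fun (f := FreeGroup.lift fun i => FreeGroup.lift w (p4 i))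
        (g := (FreeGroup.lift w).comp (FreeGroup.lift p4)) (FreeGroup.ext_hom _ _ fun i => by simp) x)
    (by
      show FreeGroup.lift w (WA (c3 hn)) * FreeGroup.lift w (WA (c3 hn)) * FreeGroup.lift w (WA (c3 hn)) = 1
      rw [hwA, ← map_mul, ← map_mul, hc3, map_one])
  have hw3 : ∀ x, FreeGroup.lift w (W3 x) = φ x := fun x => by
    refine (DFunLike.congr_fun (f := (FreeGroup.lift w).comp (FreeGroup.lift p4))
      (g := φ.comp (FreeGroup.lift g4)) (FreeGroup.ext_hom _ _ fun i => by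
        simp only [MonoidHom.comp_apply, FreeGroup.lift_apply_of]; exact (hφ i).symm) (pre3 x)).trans ?_
    rw [MonoidHom.comp_apply, hpre3]
  have hφc : φ c₀ = ψ (c3 hn) := (hφ 2).trans (hwA (c3 hn))
  have hQ : ∀ x ∈ {WA (ga hn) * U * (WA (ga hn))⁻¹ * (W3 (s10 K u))⁻¹} ∪
      GS.image (fun τ => ⁅WA (alt hn τ), U⁆) ∪
      T.image (fun t => ⁅U, WA (gb hn) * W3 (s01 K t) * (WA (gb hn))⁻¹⁆), FreeGroup.lift w x = 1 :=
    fun x hx => hw x (Finset.mem_union_right _ hx)
  simp only [Finset.mem_union, Finset.mem_singleton, or_imp, forall_and, forall_eq, Finset.forall_mem_image,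
    U, map_mul, map_inv, map_commutatorElement, hw3, hwA, mul_inv_eq_one,
    commutatorElement_eq_one_iff_commute] at hQ
  obtain ⟨⟨q2, q3⟩, q4⟩ := hQ
  have hA2 : ψ (ga hn) * ψ (ga hn) = 1 := by rw [← map_mul, ga_sq, map_one]
  have exch : ∀ h, ψ (ga hn) * φ (s01 K h) * (ψ (ga hn))⁻¹ = φ (s10 K h) := fun h =>
    DFunLike.congr_fun (MonoidHom.eq_of_eqOn_dense hu
      (f := (MulAut.conj (ψ (ga hn))).toMonoidHom.comp (φ.comp (s01 K))) (g := φ.comp (s10 K)) (by
      rintro x (rfl | rfl)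
      · exact q2
      · show ψ (ga hn) * φ (s01 K (theta u)) * (ψ (ga hn))⁻¹ = φ (s10 K (theta u))
        rw [← s10_eq, ← q2, s10_eq, theta_theta,
          show ψ (ga hn) * (ψ (ga hn) * φ (s01 K u) * (ψ (ga hn))⁻¹) * (ψ (ga hn))⁻¹ =
            ψ (ga hn) * ψ (ga hn) * φ (s01 K u) * (ψ (ga hn) * ψ (ga hn))⁻¹ by group,
          hA2, one_mul, inv_one, mul_one])) h
  have hflip : ∀ h, ψ (ga hn) * φ (s01 K h) * (ψ (ga hn))⁻¹ = φ (s01 K (theta h)) := fun h => by
    rw [exch, s10_eq]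
  have fixu : ∀ τ, Commute (ψ (alt hn τ)) (φ (s01 K u)) := by
    intro τ
    have hτ : τ ∈ Subgroup.closure (GS : Set (alternatingGroup {x : Fin n // x ≠ pt hn 0 ∧ x ≠ pt hn 1})) :=
      hGS ▸ Subgroup.mem_top τ
    induction hτ using Subgroup.closure_induction with
    | mem y hy => exact q3 (Finset.mem_coe.1 hy)
    | one => rw [map_one, map_one]; exact Commute.one_left _
    | mul y z _ _ hy hz => rw [map_mul, map_mul]; exact hy.mul_left hz
    | inv y _ hy => rw [map_inv, map_inv]; exact hy.inv_left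
  have fixed : ∀ τ h, Commute (ψ (alt hn τ)) (φ (s01 K h)) := by
    intro τ h
    refine mul_inv_eq_iff_eq_mul.1 (DFunLike.congr_fun (MonoidHom.eq_of_eqOn_dense hu
      (f := (MulAut.conj (ψ (alt hn τ))).toMonoidHom.comp (φ.comp (s01 K))) (g := φ.comp (s01 K)) ?_) h)
    rintro x (rfl | rfl)
    · exact mul_inv_eq_iff_eq_mul.2 (fixu τ).eq
    · obtain ⟨τ', hτ'⟩ := exists_alt hn (ga hn * alt hn τ * ga hn)
        (show (ga hn : Perm (Fin n)) ((alt hn τ : Perm (Fin n)) ((ga hn : Perm (Fin n)) (pt hn 0))) = _ by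
          rw [ga0, (alt_fix hn τ).2, ga1])
        (show (ga hn : Perm (Fin n)) ((alt hn τ : Perm (Fin n)) ((ga hn : Perm (Fin n)) (pt hn 1))) = _ by
          rw [ga1, (alt_fix hn τ).1, ga0])
      have h1 := fixu τ'
      rw [hτ', map_mul, map_mul] at h1
      have h2 := (Commute.conj_iff (ψ (ga hn))).2 h1
      rw [hflip, show ψ (ga hn) * (ψ (ga hn) * ψ (alt hn τ) * ψ (ga hn)) * (ψ (ga hn))⁻¹ =
        ψ (ga hn) * ψ (ga hn) * ψ (alt hn τ) by group, hA2, one_mul] at h2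
      exact mul_inv_eq_iff_eq_mul.2 h2.eq
  obtain ⟨f11, f12⟩ := hT G φ ψ exch fixed (fun t ht => q4 ht)
  have hB : ψ (ga hn) * ψ (gb hn) = ψ (gb hn) * ψ (ga hn) := by rw [← map_mul, ga_gb, map_mul]
  have hmove : ∀ x, ψ (ga hn) * (ψ (gb hn) * φ (s01 K x) * (ψ (gb hn))⁻¹) * (ψ (ga hn))⁻¹ =
      ψ (gb hn) * φ (s01 K (theta x)) * (ψ (gb hn))⁻¹ := fun x => by
    rw [← hflip, show ψ (ga hn) * (ψ (gb hn) * φ (s01 K x) * (ψ (gb hn))⁻¹) * (ψ (ga hn))⁻¹ =
      (ψ (ga hn) * ψ (gb hn)) * φ (s01 K x) * (ψ (ga hn) * ψ (gb hn))⁻¹ by group, hB]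
    group
  have f22 := (Commute.conj_iff (ψ (ga hn))).2 f11
  rw [hflip, hmove] at f22
  have f21 := (Commute.conj_iff (ψ (ga hn))).2 f12
  rw [hflip, hmove, theta_theta] at f21
  have far : ∀ h h', Commute (φ (s01 K h)) (ψ (gb hn) * φ (s01 K h') * (ψ (gb hn))⁻¹) :=
    fun h h' => commute_extend (φ.comp (s01 K))
      ((MulAut.conj (ψ (gb hn))).toMonoidHom.comp (φ.comp (s01 K))) _ _ hu hu (by
      rintro x (rfl | rfl) y (rfl | rfl)
      · exact f11
      · exact f12
      · exact f21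
      · exact f22) h h'
  have RR : Rels hn φ ψ :=
    { cyc := fun h => by rw [← hφc, aut3_eq, map_mul, map_mul, map_inv]
      exch := exch
      fixed := fixed
      far := far }
  obtain ⟨f, hf3, hfz⟩ := exists_sl_hom RR
  have hcomm : ∀ σ x, ψ σ * f x * (ψ σ)⁻¹ = f (pm n K σ * x * (pm n K σ)⁻¹) := fun σ x =>
    DFunLike.congr_fun (MonoidHom.eq_of_eqOn_dense (zT_gen (K := K) hn)
      (f := (MulAut.conj (ψ σ)).toMonoidHom.comp f) (g := f.comp (MulAut.conj (pm n K σ)).toMonoidHom) (by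
      rintro _ ⟨q, rfl⟩
      show ψ σ * f (zT hn q) * (ψ σ)⁻¹ = f (pm n K σ * zT hn q * (pm n K σ)⁻¹)
      have hz : pm n K σ * zT hn q * (pm n K σ)⁻¹ = zT hn (σ * q.1, q.2) := by
        rw [zT, zT, pm_conj _ ((q.1 : Perm (Fin n)).injective.ne ((pt_inj hn).ne (by decide)))]
        rfl
      rw [hz, hfz, hfz, map_mul]
      group)) x
  have hcent : ∀ σ x, Commute ((f (pm n K σ))⁻¹ * ψ σ) (f x) := fun σ x => by
    refine mul_inv_eq_iff_eq_mul.1 ?_
    rw [show (f (pm n K σ))⁻¹ * ψ σ * f x * ((f (pm n K σ))⁻¹ * ψ σ)⁻¹ =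
      (f (pm n K σ))⁻¹ * (ψ σ * f x * (ψ σ)⁻¹) * f (pm n K σ) by group, hcomm, map_mul, map_mul, map_inv]
    group
  let δ : alternatingGroup (Fin n) →* G := MonoidHom.mk' (fun σ => (f (pm n K σ))⁻¹ * ψ σ) fun σ τ => by
    rw [map_mul, map_mul, map_mul, _root_.mul_inv_rev, mul_assoc (f (pm n K τ))⁻¹,
      ← mul_assoc (f (pm n K σ))⁻¹, ← mul_assoc (f (pm n K τ))⁻¹, ← mul_assoc _ _ (ψ τ),
      ← ((hcent σ (pm n K τ)).inv_right).eq]
  have hδc : δ (c3 hn) = 1 := by
    show (f (pm n K (c3 hn)))⁻¹ * ψ (c3 hn) = 1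
    rw [pm_c3, hf3, hφc, inv_mul_cancel]
  have hδ : ∀ σ, δ σ = 1 := by
    set s : Finset (Fin n) := Finset.univ.filter fun x => x ≠ pt hn 0 ∧ x ≠ pt hn 1 with hs
    have hgood : Good (pt hn 0) (pt hn 1) s := by
      refine ⟨(pt_inj hn).ne (by decide), ?_, ?_⟩ <;> simp [hs]
    have hCs := Cs_eq_alternating hgood (fun x h0 h1 => by simp [hs, h0, h1])
    have hle : Cs (pt hn 0) (pt hn 1) s ≤ δ.ker.map (alternatingGroup (Fin n)).subtype := by
      rw [Cs, Subgroup.closure_le]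
      rintro _ ⟨i, hi, rfl⟩
      obtain ⟨-, hi0, hi1⟩ := Finset.mem_filter.1 (Finset.mem_coe.1 hi)
      have h01 : pt hn 0 ≠ pt hn 1 := (pt_inj hn).ne (by decide)
      have hc : (c3 hn : Perm (Fin n)) = swap (pt hn 0) (pt hn 2) * swap (pt hn 0) (pt hn 1) := by
        show swap (pt hn 0) (pt hn 1) * swap (pt hn 1) (pt hn 2) = _
        rw [conj_cyc h01.symm ((pt_inj hn).ne (show (2 : Fin 4) ≠ 1 by decide))
          ((pt_inj hn).ne (show (2 : Fin 4) ≠ 0 by decide)), swap_comm (pt hn 0) (pt hn 1)]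
      by_cases hi2 : i = pt hn 2
      · refine ⟨c3 hn, hδc, ?_⟩
        rw [hi2]; exact hc
      let τ : alternatingGroup (Fin n) := dswap (show pt hn 2 ≠ i from fun e => hi2 e.symm) h01
      refine ⟨(τ * c3 hn * τ⁻¹)⁻¹, ?_, ?_⟩
      · show δ _ = 1
        rw [map_inv, map_mul, map_mul, hδc, mul_one, map_inv, mul_inv_cancel, inv_one]
      · show ((τ : Perm (Fin n)) * c3 hn * (τ : Perm (Fin n))⁻¹)⁻¹ = cyc (pt hn 0) (pt hn 1) i
        have t0 : (τ : Perm (Fin n)) (pt hn 0) = pt hn 1 := by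
          show swap (pt hn 2) i (swap (pt hn 0) (pt hn 1) (pt hn 0)) = _
          rw [swap_apply_left, swap_apply_of_ne_of_ne ((pt_inj hn).ne (by decide)) (Ne.symm hi1)]
        have t1 : (τ : Perm (Fin n)) (pt hn 1) = pt hn 0 := by
          show swap (pt hn 2) i (swap (pt hn 0) (pt hn 1) (pt hn 1)) = _
          rw [swap_apply_right, swap_apply_of_ne_of_ne ((pt_inj hn).ne (by decide)) (Ne.symm hi0)]
        have t2 : (τ : Perm (Fin n)) (pt hn 2) = i := by
          show swap (pt hn 2) i (swap (pt hn 0) (pt hn 1) (pt hn 2)) = _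
          rw [swap_apply_of_ne_of_ne ((pt_inj hn).ne (by decide)) ((pt_inj hn).ne (by decide)), swap_apply_left]
        rw [inv_eq_iff_eq_inv, hc, cyc_inv,
          show (τ : Perm (Fin n)) * (swap (pt hn 0) (pt hn 2) * swap (pt hn 0) (pt hn 1)) * (τ : Perm (Fin n))⁻¹ =
            ((τ : Perm (Fin n)) * swap (pt hn 0) (pt hn 2) * (τ : Perm (Fin n))⁻¹) *
              ((τ : Perm (Fin n)) * swap (pt hn 0) (pt hn 1) * (τ : Perm (Fin n))⁻¹) by group,
          ← swap_apply_apply, ← swap_apply_apply, t0, t1, t2]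
        exact conj_cyc h01 hi0 hi1
    intro σ
    obtain ⟨σ', hσ', e⟩ := hle (hCs.ge σ.2)
    obtain rfl : σ' = σ := Subtype.ext e
    exact hσ'
  have fA : ∀ σ, f (pm n K σ) = ψ σ := fun σ => inv_mul_eq_one.1 (hδ σ)
  refine ⟨f, fun i => ?_⟩
  rcases i with i | i
  · show f (i3 K hn _) = _
    rw [hf3]
    fin_cases i
    · exact (hφ 0).trans FreeGroup.lift_apply_of
    · exact (hφ 1).trans FreeGroup.lift_apply_of
    · exact (hφ 3).trans FreeGroup.lift_apply_of
  · exact (fA (vA i)).trans (hψ i)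

end Cfsg.Agent.SLShort
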